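import Groth.Agent.Misc15.HomMT.GrpBialg
import Groth.Agent.Sga3.QuasiIsotrivial
import Groth.Agent.Sga3.CharDescent
import Groth.Agent.Reductive2.MultTypeSpec
import Groth.Agent.Reductive.MTLocTriv
import Groth.Agent.Reductive.FpqcLocal
import Groth.Agent.AlgSp2.SmoothDescent
import Groth.Agent.Misc15.SemilocInj.ValSplit

/-!
Groups of multiplicative type and finite type over an affine base are trivialised by étale algebras
near every prime.
-/

set_option autoImplicit false
set_option linter.style.haveILetI false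
set_option linter.unusedSectionVars false
set_option synthInstance.maxHeartbeats 200000

universe u

open CategoryTheory CategoryTheory.Limits MonoidalCategory CartesianMonoidalCategory MonObj AlgebraicGeometry
open TensorProduct

noncomputable section

namespace Groth.Misc15.HomMT

open Groth.Misc15.SemilocInj Groth.Misc15.TorusDvr Groth.Reductive.MTInt

variable {R : Type u} [CommRing R]

section Hopf

variable (G : Over (Spec (CommRingCat.of R))) [GrpObj G] [IsAffine G.left]

theorem antipode_aux₁ : (Algebra.TensorProduct.lift (ptAlg (univ G)⁻¹) (AlgHom.id R (Ob G)) fun _ _ => Commute.all _ _).comp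
    (Bialgebra.comulAlgHom R (Ob G)) = (Algebra.ofId R (Ob G)).comp (Bialgebra.counitAlgHom R (Ob G)) := by
  rw [counit_ptAlg, ← inv_mul_cancel (univ G), ← conv_ptAlg, show ptAlg (univ G) = AlgHom.id R (Ob G) from AlgHom.ext (ptHom_univ (M := G))]
  rfl

theorem antipode_aux₂ : (Algebra.TensorProduct.lift (AlgHom.id R (Ob G)) (ptAlg (univ G)⁻¹) fun _ _ => Commute.all _ _).comp
    (Bialgebra.comulAlgHom R (Ob G)) = (Algebra.ofId R (Ob G)).comp (Bialgebra.counitAlgHom R (Ob G)) := by
  rw [counit_ptAlg, ← mul_inv_cancel (univ G), ← conv_ptAlg, show ptAlg (univ G) = AlgHom.id R (Ob G) from AlgHom.ext (ptHom_univ (M := G))]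
  rfl

/-- The Hopf algebra of an affine group. -/
instance instHopfOb : HopfAlgebra R (Ob G) :=
  HopfAlgebra.ofAlgHom (ptAlg (univ G)⁻¹) (antipode_aux₁ G) (antipode_aux₂ G)

end Hopf

variable {H : Over (Spec (CommRingCat.of R))} [GrpObj H] [IsAffine H.left]

theorem distribAlg_comul {E : Type u} [CommRing E] [Algebra R E] (w : E ⊗[R] Ob H) :
    Groth.Sga3.Spreading.distribAlg E (Coalgebra.comul (R := E) w) =
      Algebra.TensorProduct.map (AlgHom.id R E) (comulOb H) w := by
  induction w using TensorProduct.induction_on with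
  | zero => simp
  | add p q hp hq => simp only [map_add, hp, hq]
  | tmul s a =>
    rw [TensorProduct.comul_tmul, CommSemiring.comul_apply, Algebra.TensorProduct.map_tmul,
      show comulOb H a = Coalgebra.comul (R := R) a from rfl]
    generalize Coalgebra.comul (R := R) a = t
    induction t using TensorProduct.induction_on with
    | zero => simp
    | add p q hp hq => simp only [TensorProduct.tmul_add, map_add, hp, hq]
    | tmul p q => simp [Groth.Sga3.Spreading.distribAlg]

theorem map_id_include {E : Type u} [CommRing E] [Algebra R E] (x : E ⊗[R] Ob H) :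
    Groth.Sga3.Spreading.distribAlg E (x ⊗ₜ[E] x) =
      Algebra.TensorProduct.map (AlgHom.id R E) (Algebra.TensorProduct.includeLeft : Ob H →ₐ[R] Ob H ⊗[R] Ob H) x *
      Algebra.TensorProduct.map (AlgHom.id R E) (Algebra.TensorProduct.includeRight : Ob H →ₐ[R] Ob H ⊗[R] Ob H) x := by
  simp only [Groth.Sga3.Spreading.distribAlg, Algebra.TensorProduct.lift_tmul]
  rfl

/-- Generators over an algebra make the functions diagonalisable. -/
theorem isDiag_of_chars {E : Type u} [CommRing E] [Algebra R E] (X : Chars H E) :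
    SGA3b.IsDiag E (E ⊗[R] Ob H) := by
  let N := Multiplicative (ULift.{u} X.N)
  let g₀ : N ≃* Multiplicative X.N := AddEquiv.toMultiplicative AddEquiv.ulift
  let χ : N →* E ⊗[R] Ob H := X.χ.comp g₀.toMonoidHom
  have hgl : ∀ n, IsGroupLikeElem E (χ n) := fun n => by
    have hc : Coalgebra.comul (R := E) (χ n) = χ n ⊗ₜ[E] χ n := by
      refine Groth.Sga3.Spreading.distribAlg_injective E ?_
      rw [distribAlg_comul, map_id_include]
      exact X.comul _
    refine ⟨?_, hc⟩
    have h := Coalgebra.rTensor_counit_comul (R := E) (χ n)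
    rw [hc, LinearMap.rTensor_tmul] at h
    have h' := congrArg (TensorProduct.lid E (E ⊗[R] Ob H)) h
    rw [TensorProduct.lid_tmul, TensorProduct.lid_tmul, _root_.one_smul, Algebra.smul_def] at h'
    have hu : IsUnit (χ n) := (Group.isUnit n).map χ
    have h1 : algebraMap E (E ⊗[R] Ob H) (Coalgebra.counit (χ n)) = 1 :=
      hu.mul_right_cancel (h'.trans (_root_.one_mul _).symm)
    simpa using congrArg (Bialgebra.counitAlgHom E (E ⊗[R] Ob H)) h1
  let L : MonoidAlgebra E N →ₐ[E] E ⊗[R] Ob H := MonoidAlgebra.lift E (E ⊗[R] Ob H) N χ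
  have hL : Function.Bijective L := by
    let d := MonoidAlgebra.domCongr E E g₀
    have : L = (MonoidAlgebra.lift E (E ⊗[R] Ob H) (Multiplicative X.N) X.χ).comp d.toAlgHom :=
      MonoidAlgebra.algHom_ext (fun n => by simp [L, d, χ, MonoidAlgebra.lift_single]) (Subsingleton.elim _ _)
    rw [this, AlgHom.coe_comp]
    exact X.bij.comp d.bijective
  let Lb : MonoidAlgebra E N →ₐc[E] E ⊗[R] Ob H := BialgHom.ofAlgHom L
    (MonoidAlgebra.algHom_ext (fun n => by simp [L, MonoidAlgebra.lift_single, (hgl n).counit_eq_one]) (Subsingleton.elim _ _))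
    (MonoidAlgebra.algHom_ext (fun n => by simp [L, MonoidAlgebra.lift_single, (hgl n).comul_eq_tmul_self]) (Subsingleton.elim _ _))
  exact ⟨N, inferInstance, ⟨(BialgEquiv.ofBijective Lb hL).symm⟩⟩

/-- Conversely, diagonalisable functions give a trivialisation. -/
theorem exists_triv_of_isDiag {E : Type u} [CommRing E] [Algebra R E] [Nontrivial E]
    [Algebra.FiniteType R (Ob H)] (h : SGA3b.IsDiag E (E ⊗[R] Ob H)) :
    Nonempty (Triv H (sp (algebraMap R E))) := by
  obtain ⟨M, _, ⟨e⟩⟩ := h
  obtain ⟨M₀, _, -, ⟨g⟩⟩ := Groth.Reductive2.MTSpec.exists_small M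
    (Groth.Sga3.MultType.group_fg_of_finiteType inferInstance e)
  let χ : Multiplicative M₀ →* E ⊗[R] Ob H :=
    ((e.symm : MonoidAlgebra E M →ₐc[E] E ⊗[R] Ob H) : MonoidAlgebra E M →* E ⊗[R] Ob H).comp
      ((MonoidAlgebra.of E M).comp g.symm.toMonoidHom)
  refine ⟨(Chars.toTriv (M := H) { N := M₀, χ := χ, bij := ?_, comul := fun n => ?_ })⟩
  · let d := MonoidAlgebra.domCongr E E g.symm
    have : MonoidAlgebra.lift E (E ⊗[R] Ob H) (Multiplicative M₀) χ =
        (e.symm : MonoidAlgebra E M →ₐ[E] E ⊗[R] Ob H).comp d.toAlgHom :=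
      MonoidAlgebra.algHom_ext (fun n => by simp [d, χ, MonoidAlgebra.lift_single]) (Subsingleton.elim _ _)
    rw [this, AlgHom.coe_comp]
    exact e.symm.bijective.comp d.bijective
  · have hgl : IsGroupLikeElem E (χ n) :=
      ((MonoidAlgebra.isGroupLikeElem_of (R := E) (g.symm n))).map (e.symm : MonoidAlgebra E M ≃ₐc[E] E ⊗[R] Ob H)
    rw [← distribAlg_comul, hgl.comul_eq_tmul_self, map_id_include]

open Groth.Hensel1 in
/-- Near every prime a group of multiplicative type and finite type is trivialised by an étale algebra. -/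
theorem exists_etale_triv (hM : SGA3x.IsMultTypeFT H) (p : Ideal R) [p.IsPrime] :
    ∃ (E : Type u) (_ : CommRing E) (_ : Algebra R E), Algebra.Etale R E ∧
      (∃ q : Ideal E, q.IsPrime ∧ q.comap (algebraMap R E) = p) ∧ Nonempty (Triv H (sp (algebraMap R E))) := by
  haveI hflat : Module.Flat R (Ob H) := flat_Ob hM
  haveI hfp : Algebra.FinitePresentation R (Ob H) := by
    have := (Groth.Reductive.flat_lfp_of_multTypeFT H hM Groth.AlgSp2.flat_descendsAlong inferInstance).2
    have h1 : LocallyOfFinitePresentation (Spec.map (CommRingCat.ofHom (algebraMap R (Ob H)))) := by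
      rw [← isoSpec_inv_hom]; infer_instance
    exact RingHom.finitePresentation_algebraMap.1
      ((HasRingHomProperty.Spec_iff (P := @LocallyOfFinitePresentation)).1 h1)
  let Ω := SeparableClosure p.ResidueField
  haveI : IsSepClosed Ω := IsSepClosure.sep_closed p.ResidueField
  let T := Hens R Ω
  haveI : IsSepClosed (IsLocalRing.ResidueField T) := Groth.Sga3.HensPoint.isSepClosed_residueField p
  -- a faithfully flat trivialisation over the henselisation
  obtain ⟨C, _, _, _, _, hff, ⟨τ⟩⟩ : ∃ (C : Type u) (_ : CommRing C) (_ : Algebra T C) (_ : Algebra R C)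
      (_ : IsScalarTower R T C), Module.FaithfullyFlat T C ∧ Nonempty (Triv H (sp (algebraMap R C))) := by
    let Y : Over (Spec (CommRingCat.of R)) := sp (algebraMap R T)
    obtain ⟨c, hc⟩ := (locTriv_of_multTypeFT hM).2 Y (inferInstanceAs (IsAffine (Spec (CommRingCat.of T))))
    obtain ⟨i, z, hz⟩ := c.surj (IsLocalRing.closedPoint T)
    let Z := c.Z i
    obtain ⟨τ⟩ := hc i
    let C := Ob Z
    let ψ : CommRingCat.of T ⟶ CommRingCat.of C := Spec.preimage (Z.left.isoSpec.inv ≫ (c.g i).left)
    letI : Algebra T C := ψ.hom.toAlgebra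
    have hψ : Spec.map (CommRingCat.ofHom (algebraMap T C)) = Z.left.isoSpec.inv ≫ (c.g i).left := Spec.map_preimage _
    haveI : IsScalarTower R T C := IsScalarTower.of_algebraMap_eq' (by
      have h1 : Spec.map (CommRingCat.ofHom (algebraMap R T) ≫ CommRingCat.ofHom (algebraMap T C)) =
          Spec.map (CommRingCat.ofHom (algebraMap R C)) := by
        rw [Spec.map_comp, hψ, ← isoSpec_inv_hom, Category.assoc]
        exact congrArg (Z.left.isoSpec.inv ≫ ·) (Over.w (c.g i))
      exact (CommRingCat.hom_ext_iff.1 (Spec.map_injective h1)).symm)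
    haveI : Flat (c.g i).left := c.flat i
    have hfl : Module.Flat T C := by
      have h1 : Flat (Spec.map (CommRingCat.ofHom (algebraMap T C))) := by rw [hψ]; infer_instance
      exact RingHom.flat_algebraMap_iff.mp ((Flat.SpecMap_iff).1 h1)
    let q : PrimeSpectrum C := Z.left.isoSpec.hom.base z
    have hq : PrimeSpectrum.comap (algebraMap T C) q = IsLocalRing.closedPoint T := by
      show (Spec.map (CommRingCat.ofHom (algebraMap T C))).base (Z.left.isoSpec.hom.base z) = _
      rw [hψ, ← Scheme.Hom.comp_apply, Iso.hom_inv_id_assoc, hz]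
    refine ⟨C, inferInstance, inferInstance, inferInstance, inferInstance,
      Module.FaithfullyFlat.of_comap_surjective fun P => ?_, ⟨τ.restrict (univ Z)⟩⟩
    haveI : q.asIdeal.LiesOver (IsLocalRing.maximalIdeal T) := ⟨(congrArg PrimeSpectrum.asIdeal hq).symm⟩
    obtain ⟨Q, -, hQ, hQP⟩ := Ideal.exists_ideal_le_liesOver_of_le (p := P.asIdeal) q.asIdeal
      (q := IsLocalRing.maximalIdeal T) (IsLocalRing.le_maximalIdeal P.isPrime.ne_top)
    exact ⟨⟨Q, hQ⟩, PrimeSpectrum.ext hQP.over.symm⟩
  -- diagonalisable over the henselisation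
  have hconst : SGA3b.IsMultTypeConst T (T ⊗[R] Ob H) :=
    ⟨C, inferInstance, inferInstance, hff, Groth.Sga3.MultType.isDiag_of_equiv
      (Groth.Sga3.MultType.cancelBC R T C (Ob H)).symm (isDiag_of_chars (Chars.ofTriv τ))⟩
  have hk := Groth.Sga3.CharLift.isDiag_of_isSepClosed (k := IsLocalRing.ResidueField T)
    (A := IsLocalRing.ResidueField T ⊗[T] (T ⊗[R] Ob H)) inferInstance
    (Groth.Sga3.MultType.isMultType_of_const (Groth.Sga3.CharLift.isMultTypeConst_baseChange _ hconst))
  obtain ⟨M, _, ⟨e⟩⟩ := Groth.Sga3.CharLift.isDiag_of_henselian (R := T) inferInstance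
    (Groth.Sga3.MultType.isMultType_of_const hconst) hk
  haveI : Group.FG M :=
    Groth.Sga3.MultType.group_fg_of_finiteType (inferInstance : Algebra.FiniteType T (T ⊗[R] Ob H)) e
  haveI := Groth.Sga3.QuasiIsotrivial.finitePresentation_monoidAlgebra R M
  haveI : Module.Projective R (MonoidAlgebra R M) :=
    Module.Projective.of_equiv (MonoidAlgebra.coeffLinearEquiv R).symm
  obtain ⟨S, ⟨f⟩⟩ := Groth.Sga3.Spreading.exists_stage_equiv (e.trans (Groth.Sga3.MultType.monAlgBC R T M).symm)
  obtain ⟨q, hq, hqp⟩ := Groth.Sga3.HensPoint.exists_prime_over p S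
  haveI := hq
  haveI : Nontrivial S.E := nontrivial_of_ne 1 0 fun h => hq.ne_top ((Ideal.eq_top_iff_one q).2 (h ▸ q.zero_mem))
  exact ⟨S.E, inferInstance, inferInstance, inferInstance, ⟨q, hq, hqp⟩,
    exists_triv_of_isDiag ⟨M, inferInstance, ⟨f.trans (Groth.Sga3.MultType.monAlgBC R S.E M)⟩⟩⟩

end Groth.Misc15.HomMT
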