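import Groth.Agent.Misc15.HomMT.Main
import Groth.Agent.Misc15.HomMT.QuasiIso
import Groth.Agent.Reductive.BaseChangeMT

/-!
Representability of the homomorphisms from a group of multiplicative type and finite type to a smooth
affine group.
-/

set_option autoImplicit false
set_option linter.style.haveILetI false
set_option synthInstance.maxHeartbeats 200000
universe u

open CategoryTheory CategoryTheory.Limits MonoidalCategory CartesianMonoidalCategory MonObj AlgebraicGeometry
open Groth.Reductive Groth.Reductive.MTInt Groth.Misc15.SemilocInj Groth.Misc15.TorusDvr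

noncomputable section

namespace Groth.Misc15.HomMT

variable {S : Scheme.{u}} {H G : Over S} [GrpObj H] [GrpObj G]

/-- A trivialisation of a base change is one of the group. -/
theorem exists_triv_of_bc {T : Scheme.{u}} (g : T ⟶ S) {Y : Over T} (τ : Triv (Red.bc g H) Y) :
    Nonempty (Triv H ((Over.map g).obj Y)) := by
  let zz : ∀ {Z : Over S} (z : Z ⟶ (Over.map g).obj Y), Over T := fun {Z} z => Over.mk (z.left ≫ Y.hom)
  let c : ∀ {Z : Over S} (z : Z ⟶ (Over.map g).obj Y), (Over.map g).obj (zz z) ≅ Z := fun {Z} z =>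
    Over.isoMk (Iso.refl Z.left) (by
      show 𝟙 _ ≫ Z.hom = (z.left ≫ Y.hom) ≫ g
      rw [Category.id_comp, ← Over.w z]
      simp)
  let E2 : ∀ {Z : Over S} (z : Z ⟶ (Over.map g).obj Y),
      (Z ⟶ H) ≃* ((Over.map g).obj (zz z) ⟶ H) := fun {Z} z ↦
    { toFun := fun x ↦ (c z).hom ≫ x
      invFun := fun x ↦ (c z).inv ≫ x
      left_inv := fun x ↦ by simp
      right_inv := fun x ↦ by simp
      map_mul' := fun a b ↦ MonObj.comp_mul _ a b }
  let y : ∀ {Z : Over S} (z : Z ⟶ (Over.map g).obj Y), zz z ⟶ Y := fun z => Over.homMk z.left rfl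
  refine ⟨{ M := τ.M, val := fun {Z} z => (E2 z).trans ((bcPointEquiv g H (zz z)).symm.trans (τ.val (y z))),
            nat := fun {Z W} w z h => ?_ }⟩
  let w' : zz (w ≫ z) ⟶ zz z := Over.homMk w.left (Category.assoc _ _ _).symm
  have h1 : (bcPointEquiv g H (zz (w ≫ z))).symm (E2 (w ≫ z) (w ≫ h)) =
      w' ≫ (bcPointEquiv g H (zz z)).symm (E2 z h) := by
    apply (bcPointEquiv g H _).injective
    rw [bcPointEquiv_comp, MulEquiv.apply_symm_apply, MulEquiv.apply_symm_apply]
    show (c (w ≫ z)).hom ≫ w ≫ h = (Over.map g).map w' ≫ (c z).hom ≫ h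
    rw [← Category.assoc, ← Category.assoc]
    congr 1
  have h2 : y (w ≫ z) = w' ≫ y z := Over.OverMorphism.ext rfl
  simp only [MulEquiv.trans_apply]
  rw [h1, h2, τ.nat]
  rfl

/-- Groups of multiplicative type and finite type are trivialised étale-locally. -/
theorem exists_etale_chart (hH : SGA3x.IsMultTypeFT H) (s : S) :
    ∃ (T : Scheme.{u}) (f : T ⟶ S) (t : T), Etale f ∧ f t = s ∧ Nonempty (Triv H (Over.mk f)) := by
  obtain ⟨O, hO, hsO, -⟩ := exists_isAffineOpen_mem_and_subset (U := (⊤ : S.Opens)) (show s ∈ (⊤ : S.Opens) from trivial)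
  obtain ⟨p, hp⟩ : ∃ p, hO.fromSpec p = s := hO.range_fromSpec.ge hsO
  generalize hg : hO.fromSpec = g at hp
  haveI : IsOpenImmersion g := hg ▸ inferInstance
  clear hg
  generalize Γ(S, O) = R at g p hp
  obtain ⟨R⟩ := R
  haveI : IsAffineHom (Red.bc g H).hom :=
    MorphismProperty.pullback_snd (P := @IsAffineHom) _ _ (locTriv_of_multTypeFT hH).1
  haveI : IsAffine (Red.bc g H).left := isAffine_of_isAffineHom (Red.bc g H).hom
  obtain ⟨E, _, _, hE, ⟨q, hq, hqp⟩, ⟨τ⟩⟩ :=
    exists_etale_triv (Groth.Reductive.FreeDiag.isMultTypeFT_bc hH g) p.asIdeal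
  obtain ⟨τ'⟩ := exists_triv_of_bc g τ
  haveI := hE
  haveI : Etale (Spec.map (CommRingCat.ofHom (algebraMap R E))) :=
    (HasRingHomProperty.Spec_iff (P := @Etale)).2 (RingHom.etale_algebraMap.2 hE)
  refine ⟨Spec (CommRingCat.of E), Spec.map (CommRingCat.ofHom (algebraMap R E)) ≫ g, ⟨q, hq⟩, inferInstance, ?_,
    ⟨τ'⟩⟩
  rw [Scheme.Hom.comp_apply, ← hp]
  exact congrArg g (PrimeSpectrum.ext hqp)

theorem exists_representsHom_of_multTypeFT (hH : SGA3x.IsMultTypeFT H) (hG : Smooth G.hom)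
    (hGa : IsAffineHom G.hom) :
    ∃ (A : Over S) (υ : H ⊗ A ⟶ G), AutFam.RepresentsHom H G A υ ∧ Smooth A.hom ∧ IsSeparated A.hom :=
  exists_representsHom_of_triv (locTriv_of_multTypeFT hH) (exists_etale_chart hH) hG hGa

end Groth.Misc15.HomMT
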