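import Groth.Agent.Reductive.MTSubTransporter
import Groth.Agent.Reductive.MTRigidLift
import Groth.Agent.Pi1Desc.Fpqc
import Groth.Agent.Reductive2.HomTwConst
import Groth.Prelude.Def_AutFam

/-!
Separatedness and smoothness of schemes representing the homomorphisms from a group of multiplicative
type to a smooth affine group.
-/

set_option autoImplicit false
universe u

open CategoryTheory CategoryTheory.Limits MonoidalCategory CartesianMonoidalCategory MonObj AlgebraicGeometry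
open Groth.Reductive.MTInt

noncomputable section

namespace Groth.Misc15.HomMT

variable {S : Scheme.{u}} {H G : Over S} [GrpObj H] [GrpObj G]

/-- A scheme whose points are determined by the families they give is separated. -/
theorem isSeparated_of_injective (hH : LocTriv H) (hG : IsAffineHom G.hom) {X P : Over S} (w : P ⟶ X)
    (υ : H ⊗ P ⟶ G)
    (hinj : ∀ {W : Over S} (a a' : W ⟶ P), a ≫ w = a' ≫ w → (H ◁ a) ≫ υ = (H ◁ a') ≫ υ → a = a') :
    IsSeparated w.left := by
  let Z : Over S := Over.mk (pullback.fst w.left w.left ≫ P.hom)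
  let p₁ : Z ⟶ P := Over.homMk (pullback.fst w.left w.left) rfl
  let p₂ : Z ⟶ P := Over.homMk (pullback.snd w.left w.left) (by
    show _ ≫ P.hom = _ ≫ P.hom
    rw [← Over.w w, pullback.condition_assoc])
  let d : P ⟶ Z := Over.homMk (pullback.diagonal w.left) (by simp [Z])
  have h₁ : d ≫ p₁ = 𝟙 P := Over.OverMorphism.ext (pullback.diagonal_fst _)
  have h₂ : d ≫ p₂ = 𝟙 P := Over.OverMorphism.ext (pullback.diagonal_snd _)
  obtain ⟨Eq', j, hj, -, hE⟩ := exists_agreeLocus hH ((H ◁ p₁) ≫ υ) ((H ◁ p₂) ≫ υ) hG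
  obtain ⟨z, hz⟩ := (hE P d).2 (by
    show (H ◁ d) ≫ (H ◁ p₁) ≫ υ = (H ◁ d) ≫ (H ◁ p₂) ≫ υ
    rw [← whiskerLeft_comp_assoc, ← whiskerLeft_comp_assoc, h₁, h₂])
  haveI := hj
  haveI : Mono j := (Over.forget S).mono_of_mono_map (inferInstanceAs (Mono j.left))
  have heq : j ≫ p₁ = j ≫ p₂ := by
    refine hinj _ _ (Over.OverMorphism.ext ?_) ?_
    · simp [p₁, p₂, pullback.condition]
    · have := (hE Eq' j).1 ⟨𝟙 _, Category.id_comp _⟩
      unfold Agree at this
      rwa [← whiskerLeft_comp_assoc, ← whiskerLeft_comp_assoc] at this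
  have hjd : j = (j ≫ p₁) ≫ d := by
    refine Over.OverMorphism.ext (pullback.hom_ext ?_ ?_)
    · simp [d, p₁]
    · simpa [d, p₂] using congrArg CommaMorphism.left heq.symm
  haveI : IsIso z := ⟨j ≫ p₁, by rw [reassoc_of% hz, h₁],
    by rw [← cancel_mono j, Category.assoc, hz, Category.id_comp, ← hjd]⟩
  haveI : IsIso z.left := inferInstanceAs (IsIso ((Over.forget S).map z))
  refine ⟨?_⟩
  rw [show pullback.diagonal w.left = z.left ≫ j.left from (congrArg CommaMorphism.left hz).symm]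
  infer_instance

theorem isSeparated_of_representsHom (hH : LocTriv H) (hG : IsAffineHom G.hom) {A : Over S} {υ : H ⊗ A ⟶ G}
    (hA : AutFam.RepresentsHom H G A υ) : IsSeparated A.hom := by
  have h := isSeparated_of_injective hH hG (X := Over.mk (𝟙 S)) (Over.homMk A.hom (Category.comp_id _)) υ
    fun {W} a a' _ he => by
      obtain ⟨b, -, hb⟩ := hA.2 W ((H ◁ a) ≫ υ) (fun V g g' t => by
        simp only [lift_whiskerLeft_assoc]
        exact hA.1 V g g' (t ≫ a))
      rw [hb a rfl, hb a' he.symm]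
  exact h

theorem smooth_of_representsHom (hH : LocTriv H) (hG : Smooth G.hom) {A : Over S} {υ : H ⊗ A ⟶ G}
    (hA : AutFam.RepresentsHom H G A υ) [LocallyOfFinitePresentation A.hom] : Smooth A.hom := by
  refine smooth_of_isFormallySmoothHom _ fun B _ I hI a b w => ?_
  obtain ⟨i₀, hi₀, hsq⟩ := exists_sqZero B I hI b
  let a₀ : (Over.mk (Spec.map (CommRingCat.ofHom (Ideal.Quotient.mk I)) ≫ b) : Over S) ⟶ A :=
    Over.homMk a w.symm
  haveI : IsAffine (Over.mk b : Over S).left := inferInstanceAs (IsAffine (Spec _))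
  haveI : IsAffine (Over.mk (Spec.map (CommRingCat.ofHom (Ideal.Quotient.mk I)) ≫ b) : Over S).left :=
    inferInstanceAs (IsAffine (Spec _))
  have hf : AutFam.IsHomFamily H G ((H ◁ a₀) ≫ υ) := fun V g g' t => by
    simp only [lift_whiskerLeft_assoc]
    exact hA.1 V g g' (t ≫ a₀)
  obtain ⟨φ, hφ, hφ₀⟩ := exists_homFam_lift_smooth hH hG hsq ((H ◁ a₀) ≫ υ) hf
  obtain ⟨l, hl, -⟩ := hA.2 _ φ hφ
  obtain ⟨b', -, hb⟩ := hA.2 _ _ hf
  have e : i₀ ≫ l = a₀ := (hb (i₀ ≫ l) (by
    beta_reduce; rw [whiskerLeft_comp_assoc, hl, hφ₀])).trans (hb a₀ rfl).symm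
  exact ⟨l.left, (congrArg (· ≫ l.left) hi₀.symm).trans (congrArg CommaMorphism.left e), Over.w l⟩

/-- Étale-locally diagonalisable groups are locally trivialised. -/
theorem locTriv_of_etale (hH : TwC.Locally S TwC.Topology.etale (fun S' g => ∃ (M : Type) (_ : AddCommGroup M),
    Nonempty (Grp.mk (Red.bc g H) ≅ Grp.mk (Red.DS S' M)))) : LocTriv H := by
  choose T f hf hs M hM e using hH
  let p := Sigma.desc f
  haveI : Etale p := IsZariskiLocalAtSource.sigmaDesc hf
  haveI : Surjective p := ⟨fun s => by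
    obtain ⟨t, ht⟩ := hs s
    exact ⟨Sigma.ι T s t, by rw [← Scheme.Hom.comp_apply, Sigma.ι_desc]; exact ht⟩⟩
  refine locTriv_of_locally ⟨∐ T, p, inferInstance, inferInstance,
    fun V hV => Groth.Pi1Desc.IsCover.exists_isCompact_image_eq p hV, fun t => ?_⟩
  obtain ⟨⟨i, x⟩, rfl⟩ := (sigmaMk T).surjective t
  let U := (Sigma.ι T i).opensRange
  refine ⟨U, ⟨x, (sigmaMk_mk T i x).symm⟩, M i, hM i, ?_⟩
  letI := hM i
  obtain ⟨i₀, hi₀⟩ := Groth.Reductive2.HomTwConst.exists_iso_of_grp (e i)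
  let k : (U : Scheme.{u}) ⟶ T i := IsOpenImmersion.lift (Sigma.ι T i) U.ι (by rw [Scheme.Opens.range_ι]; rfl)
  obtain ⟨i₁, hi₁⟩ := Groth.Reductive.FreeDiag.exists_trivialisation_comp H k (f i) i₀
  have hk : U.ι ≫ p = k ≫ f i := by
    conv_rhs => rw [← Sigma.ι_desc f i, ← Category.assoc, IsOpenImmersion.lift_fac]
  rw [hk]
  exact ⟨(Grp.mkIso i₁ hi₁.one_hom hi₁.mul_hom).symm⟩

end Groth.Misc15.HomMT
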