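import Groth.Agent.Misc15.HomMT.Chart
import Groth.Agent.Misc15.HomMT.Generic
import Groth.Agent.Reductive2.HomDescent
import Groth.Agent.Ega4Algebra2.GeomConnectedEtaleDescent

/-!
Representability of the homomorphisms into a smooth affine group over an affine base covered by a single
étale chart.
-/

set_option autoImplicit false
set_option linter.style.haveILetI false
set_option linter.unusedSectionVars false
set_option synthInstance.maxHeartbeats 200000

universe u

open CategoryTheory CategoryTheory.Limits MonoidalCategory CartesianMonoidalCategory MonObj AlgebraicGeometry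

noncomputable section

namespace Groth.Misc15.HomMT

open Groth.Misc15.SemilocInj Groth.Misc15.TorusDvr Groth.Reductive.MTInt Groth.Reductive2.HomDesc

variable {R : Type u} [CommRing R] {H G : Over (Spec (CommRingCat.of R))} [GrpObj H] [GrpObj G]
  [IsAffine G.left] [Algebra.FinitePresentation R (Ob G)] (F : FinComod R (Ob G))
  {R' : Type u} [CommRing R'] [Algebra R R'] (τ : Triv H (sp (algebraMap R R')))

/-- The representing object over the chart, as a scheme over the chart. -/
abbrev A₀ : Over (X₀ (R := R) R').left := Over.mk (snd (homS (G := Chr τ) F) (X₀ (R := R) R')).left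

/-- It viewed over the base. -/
def toP₀ : (Over.map (X₀ (R := R) R').hom).obj (A₀ F τ) ≅ P₀ F τ :=
  Over.isoMk (Iso.refl _) ((Category.id_comp _).trans (Over.w (snd _ _)).symm)

/-- The universal family over the chart. -/
def upsilon₀ : H ⊗ (Over.map (X₀ (R := R) R').hom).obj (A₀ F τ) ⟶ G := (H ◁ (toP₀ F τ).hom) ≫ upsilon F τ

theorem representsOn_upsilon₀ : RepresentsOn H G (X₀ (R := R) R').hom (A₀ F τ) (upsilon₀ F τ) := by
  refine ⟨isHomFamily_comp (isHomFamily_upsilon F τ) _, fun Z φ hφ => ?_⟩
  let W := (Over.map (X₀ (R := R) R').hom).obj Z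
  let w : W ⟶ X₀ (R := R) R' := Over.homMk Z.hom rfl
  obtain ⟨a, ⟨ha₁, ha₂⟩, hau⟩ := existsUnique_classify F τ w φ hφ
  let a' : Z ⟶ A₀ F τ := Over.homMk a.left (congrArg CommaMorphism.left ha₁)
  have key : ∀ b : Z ⟶ A₀ F τ, (H ◁ (Over.map (X₀ (R := R) R').hom).map b) ≫ upsilon₀ F τ =
      (H ◁ ((Over.map (X₀ (R := R) R').hom).map b ≫ (toP₀ F τ).hom)) ≫ upsilon F τ := fun b => by
    rw [whiskerLeft_comp_assoc]; rfl
  have ha' : (Over.map (X₀ (R := R) R').hom).map a' ≫ (toP₀ F τ).hom = a :=
    Over.OverMorphism.ext (Category.comp_id _)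
  refine ⟨a', by beta_reduce; rw [key, ha', ha₂], fun b hb => ?_⟩
  have hb' := hau ((Over.map (X₀ (R := R) R').hom).map b ≫ (toP₀ F τ).hom)
    ⟨Over.OverMorphism.ext ((congrArg (· ≫ _) (Category.comp_id _)).trans (Over.w b)), by rw [← key]; exact hb⟩
  refine Over.OverMorphism.ext ?_
  exact (Category.comp_id _).symm.trans (congrArg CommaMorphism.left hb')

theorem isSeparated_snd (hH : LocTriv H) :
    IsSeparated (snd (homS (G := Chr τ) F) (X₀ (R := R) R')).left := by
  haveI := ‹IsAffine G.left›
  refine isSeparated_of_injective hH inferInstance _ (upsilon F τ) fun {W} a a' h h' => ?_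
  obtain ⟨b, -, hb⟩ := existsUnique_classify F τ (a ≫ snd _ _) ((H ◁ a) ≫ upsilon F τ)
    (isHomFamily_comp (isHomFamily_upsilon F τ) a)
  rw [hb a ⟨rfl, rfl⟩, hb a' ⟨h.symm, h'.symm⟩]

include τ in
/-- Representability over an affine base covered by one étale chart. -/
theorem exists_representsHom_affine (hH : LocTriv H) [Algebra.Smooth R (Ob G)] [Etale (X₀ (R := R) R').hom]
    [Surjective (X₀ (R := R) R').hom] :
    ∃ (A : Over (Spec (CommRingCat.of R))) (υ : H ⊗ A ⟶ G),
      AutFam.RepresentsHom H G A υ ∧ LocallyOfFinitePresentation A.hom := by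
  obtain ⟨F⟩ := exists_finComod (R := R) (A := Ob G)
  set X := X₀ (R := R) R'
  haveI : QuasiCompact X.hom := inferInstanceAs (QuasiCompact (Spec.map _))
  let I := Groth.GrassRep.Pt (CommAlgCat.of R (invRing (R := R) F))
  let inv : P₀ F τ ⟶ I := fst _ _ ≫ invMap F
  obtain ⟨U, ω, c, hU, -, hsq⟩ := exists_representsHom_of_cover' X.hom (representsOn_upsilon₀ F τ) fun α hα => by
    have hinv : ∀ {T : Scheme.{u}} (v : T ⟶ (A₀ F τ).left) (x : T ⟶ X.left) (e : v ≫ (A₀ F τ).hom ≫ X.hom = x ≫ X.hom),
        α.act v x e ≫ inv.left = v ≫ inv.left := fun {T} v x e => by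
      let m : Over.mk (x ≫ X.hom) ⟶ (Over.map X.hom).obj (A₀ F τ) := Over.homMk v e
      let m' : Over.mk (x ≫ X.hom) ⟶ (Over.map X.hom).obj (A₀ F τ) :=
        Over.homMk (α.act v x e) (α.act_hom_assoc v x e _)
      have he : m.left ≫ (A₀ F τ).hom ≫ X.hom = (m'.left ≫ (A₀ F τ).hom) ≫ X.hom := by
        show v ≫ _ = (α.act v x e ≫ (A₀ F τ).hom) ≫ _
        rw [α.act_hom, e]
      have h := hα m m' he (α.congr rfl (α.act_hom v x e) _ _)
      have h' := invMap_eq F τ (a := m ≫ (toP₀ F τ).hom) (a' := m' ≫ (toP₀ F τ).hom) (by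
        simpa only [upsilon₀, whiskerLeft_comp, Category.assoc] using h)
      simpa [m, m', inv, toP₀] using (congrArg CommaMorphism.left h').symm
    let g : (A₀ F τ).left ⟶ pullback X.hom I.hom := pullback.lift (A₀ F τ).hom inv.left
      ((Over.w (snd (homS (G := Chr τ) F) X)).trans (Over.w inv).symm)
    let p' := pullback.snd X.hom I.hom
    have hg₁ : g ≫ pullback.fst X.hom I.hom = (A₀ F τ).hom := pullback.lift_fst _ _ _
    have hg₂ : g ≫ p' = inv.left := pullback.lift_snd _ _ _
    have hcond : ∀ {T : Scheme.{u}} (v : T ⟶ (A₀ F τ).left) (x : T ⟶ pullback X.hom I.hom),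
        v ≫ g ≫ p' = x ≫ p' → v ≫ (A₀ F τ).hom ≫ X.hom = (x ≫ pullback.fst X.hom I.hom) ≫ X.hom :=
      fun v x e => by
        rw [← hg₁]
        simp only [Category.assoc, pullback.condition]
        rw [reassoc_of% e]
    let β : Groth.Pi1Desc.Act g p' :=
      { act := fun v x e => α.act v (x ≫ pullback.fst X.hom I.hom) (hcond v x e)
        act_hom := fun v x e => pullback.hom_ext (by rw [Category.assoc, hg₁, α.act_hom]) (by
          rw [Category.assoc, hg₂, hinv, ← hg₂, e])
        act_self := fun v x e hx => α.act_self v _ _ (by rw [← hx, Category.assoc, hg₁])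
        act_act := fun v x y e e' e'' => α.act_act v _ _ _ _ _
        act_comp := fun k v x e e' => (α.congr rfl (Category.assoc _ _ _) _ _).trans
          (α.act_comp k v _ (hcond v x e) (by rw [← Category.assoc k]; simp only [Category.assoc]; rw [hcond v x e]; simp)) }
    haveI : IsSeparated (g ≫ pullback.fst X.hom I.hom) := hg₁.symm ▸ isSeparated_snd F τ hH
    haveI : IsSeparated g := IsSeparated.of_comp g (pullback.fst X.hom I.hom)
    haveI : LocallyQuasiFinite (invMap (G := Chr τ) F).left := locallyQuasiFinite_invMap F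
    haveI : LocallyOfFiniteType (invMap (G := Chr τ) F).left := locallyOfFiniteType_invMap F
    haveI : Etale (fst (homS (G := Chr τ) F) X).left :=
      MorphismProperty.pullback_fst (P := @Etale) _ _ inferInstance
    haveI : LocallyQuasiFinite (fst (homS (G := Chr τ) F) X).left :=
      Groth.Ega4b.EtaleDescent.locallyQuasiFinite_of_etale _
    haveI : LocallyQuasiFinite (g ≫ p') := by
      rw [hg₂]; exact inferInstanceAs (LocallyQuasiFinite ((fst (homS (G := Chr τ) F) X).left ≫ (invMap F).left))
    haveI : LocallyOfFiniteType (g ≫ p') := by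
      rw [hg₂]; exact inferInstanceAs (LocallyOfFiniteType ((fst (homS (G := Chr τ) F) X).left ≫ (invMap F).left))
    haveI : LocallyQuasiFinite g := LocallyQuasiFinite.of_comp g p'
    haveI : LocallyOfFiniteType g := locallyOfFiniteType_of_comp g p'
    haveI : Etale p' := MorphismProperty.pullback_snd _ _ inferInstance
    haveI : Surjective p' := MorphismProperty.pullback_snd _ _ inferInstance
    obtain ⟨U, π, q, hpb, hc⟩ := Groth.Pi1Desc.Act.eff_of_lqf (A := β)
    refine ⟨U, π ≫ I.hom, q, ?_, fun T v x e => ?_⟩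
    · have := hpb.paste_vert (IsPullback.of_hasPullback X.hom I.hom).flip
      rwa [hg₁] at this
    · let x' : T ⟶ pullback X.hom I.hom := pullback.lift x (v ≫ inv.left) (by
        rw [Category.assoc, Over.w inv, ← Over.w (snd (homS (G := Chr τ) F) X)]
        exact e.symm)
      have hx₁ : x' ≫ pullback.fst X.hom I.hom = x := pullback.lift_fst _ _ _
      have e' : v ≫ g ≫ p' = x' ≫ p' := by rw [hg₂]; exact (pullback.lift_snd _ _ _).symm
      rw [← hc T v x' e']
      exact congrArg (· ≫ q) (α.congr rfl hx₁.symm _ _)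
  refine ⟨U, ω, hU, ?_⟩
  haveI : LocallyOfFinitePresentation (A₀ F τ).hom :=
    MorphismProperty.pullback_snd (P := @LocallyOfFinitePresentation) _ _ (locallyOfFinitePresentation_homS F)
  exact MorphismProperty.of_isPullback_of_descendsAlong (P := @LocallyOfFinitePresentation)
    (Q := @Surjective ⊓ @Flat ⊓ @QuasiCompact) hsq.flip ⟨⟨inferInstance, inferInstance⟩, inferInstance⟩
    inferInstance

end Groth.Misc15.HomMT
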