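import Mathlib.RingTheory.Bialgebra.Basic
import Mathlib.RingTheory.TensorProduct.Maps
import Mathlib.Algebra.MonoidAlgebra.Basic
import Mathlib.Algebra.MonoidAlgebra.Module

/-!
# Families of homomorphisms from a diagonalisable group into an affine monoid, on rings

A family over a ring `B` of homomorphisms from the diagonalisable group of `G` into the monoid of a
bialgebra `A` is a map of algebras from `A` into the monoid algebra `B[G]` compatible with
comultiplication and counit.
-/

set_option autoImplicit false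

universe u v

open TensorProduct

noncomputable section

namespace Groth.Misc15.HomMT

variable {R : Type u} [CommRing R] {A : Type u} [CommRing A] [Bialgebra R A]
  {G : Type v} [CommGroup G] {B C D : Type*} [CommRing B] [Algebra R B] [CommRing C] [Algebra R C]
  [CommRing D] [Algebra R D]

/-- The product of two points. -/
def conv (f g : A →ₐ[R] C) : A →ₐ[R] C :=
  (Algebra.TensorProduct.lift f g fun _ _ => Commute.all _ _).comp (Bialgebra.comulAlgHom R A)

theorem comp_conv (h : C →ₐ[R] D) (f g : A →ₐ[R] C) :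
    h.comp (conv f g) = conv (h.comp f) (h.comp g) := by
  have e : h.comp (Algebra.TensorProduct.lift f g fun _ _ => Commute.all _ _) =
      Algebra.TensorProduct.lift (h.comp f) (h.comp g) fun _ _ => Commute.all _ _ := by
    ext <;> simp
  rw [conv, conv, ← AlgHom.comp_assoc, e]

theorem conv_apply (f g : A →ₐ[R] C) (a : A) :
    conv f g a = Algebra.TensorProduct.lift f g (fun _ _ => Commute.all _ _) (Coalgebra.comul (R := R) a) :=
  rfl

/-- The point of `B[G]` given by a map on coefficients and a character. -/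
def ev (β : B →ₐ[R] C) (χ : G →* C) : MonoidAlgebra B G →ₐ[R] C :=
  MonoidAlgebra.liftNCAlgHom β χ fun _ _ => Commute.all _ _

@[simp] theorem ev_single (β : B →ₐ[R] C) (χ : G →* C) (g : G) (b : B) :
    ev β χ (MonoidAlgebra.single g b) = β b * χ g := by
  simp [ev]

theorem comp_ev (h : C →ₐ[R] D) (β : B →ₐ[R] C) (χ : G →* C) :
    h.comp (ev β χ) = ev (h.comp β) ((h : C →* D).comp χ) := by
  refine MonoidAlgebra.algHom_ext (fun g => ?_) (AlgHom.ext fun b => ?_) <;> simp

theorem ev_comp_mapAlgHom (f : B →ₐ[R] C) (β : C →ₐ[R] D) (χ : G →* D) :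
    (ev β χ).comp (MonoidAlgebra.mapAlgHom G f) = ev (β.comp f) χ := by
  refine MonoidAlgebra.algHom_ext (fun g => ?_) (AlgHom.ext fun b => ?_) <;> simp

theorem ev_comp_mapDomain {G' : Type*} [CommGroup G'] (k : G →* G') (β : B →ₐ[R] C) (χ : G' →* C) :
    (ev β χ).comp (MonoidAlgebra.mapDomainAlgHom R B k) = ev β (χ.comp k) := by
  refine MonoidAlgebra.algHom_ext (fun g => ?_) (AlgHom.ext fun b => ?_) <;> simp

theorem ev_of (B : Type*) [CommRing B] [Algebra R B] :
    ev (MonoidAlgebra.singleOneAlgHom : B →ₐ[R] MonoidAlgebra B G) (MonoidAlgebra.of B G) = AlgHom.id R _ := by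
  refine MonoidAlgebra.algHom_ext (fun g => ?_) (AlgHom.ext fun b => ?_) <;>
    simp [MonoidAlgebra.of_apply, MonoidAlgebra.single_mul_single]

theorem ev_one_apply (x : MonoidAlgebra B G) :
    ev (AlgHom.id R B) 1 x = x.coeff.sum fun _ b => b := by
  induction x using MonoidAlgebra.induction_linear with
  | zero => simp
  | add p q hp hq =>
    rw [map_add, hp, hq, MonoidAlgebra.coeff_add, Finsupp.sum_add_index']
    · exact fun _ => rfl
    · exact fun _ _ _ => rfl
  | single g b => simp

/-- A family of homomorphisms. -/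
structure IsFam (Φ : A →ₐ[R] MonoidAlgebra B G) : Prop where
  mul : (MonoidAlgebra.mapDomainAlgHom R B ((MonoidHom.id G).prod (MonoidHom.id G))).comp Φ =
    conv ((MonoidAlgebra.mapDomainAlgHom R B (MonoidHom.inl G G)).comp Φ)
      ((MonoidAlgebra.mapDomainAlgHom R B (MonoidHom.inr G G)).comp Φ)
  one : (ev (AlgHom.id R B) 1).comp Φ = (Algebra.ofId R B).comp (Bialgebra.counitAlgHom R A)

variable {Φ : A →ₐ[R] MonoidAlgebra B G}

theorem IsFam.ev_mul (hΦ : IsFam Φ) (β : B →ₐ[R] C) (χ χ' : G →* C) :
    (ev β (χ * χ')).comp Φ = conv ((ev β χ).comp Φ) ((ev β χ').comp Φ) := by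
  have h := congrArg (fun f => (ev β (χ.coprod χ')).comp f) hΦ.mul
  simp only [comp_conv, ← AlgHom.comp_assoc, ev_comp_mapDomain] at h
  rw [MonoidHom.coprod_comp_inl, MonoidHom.coprod_comp_inr] at h
  rw [← h]
  congr 2

theorem IsFam.ev_one (hΦ : IsFam Φ) (β : B →ₐ[R] C) :
    (ev β 1).comp Φ = (Algebra.ofId R C).comp (Bialgebra.counitAlgHom R A) := by
  have h := congrArg (fun f => β.comp f) hΦ.one
  simp only [← AlgHom.comp_assoc, comp_ev, AlgHom.comp_id, MonoidHom.comp_one] at h
  rw [h]
  congr 1
  exact AlgHom.ext fun r => by simp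

theorem isFam_of_points (Φ : A →ₐ[R] MonoidAlgebra B G)
    (h : (ev (MonoidAlgebra.singleOneAlgHom : B →ₐ[R] MonoidAlgebra B (G × G))
        ((MonoidAlgebra.of B (G × G)).comp (MonoidHom.inl G G) *
          (MonoidAlgebra.of B (G × G)).comp (MonoidHom.inr G G))).comp Φ =
      conv ((ev MonoidAlgebra.singleOneAlgHom ((MonoidAlgebra.of B (G × G)).comp (MonoidHom.inl G G))).comp Φ)
        ((ev MonoidAlgebra.singleOneAlgHom ((MonoidAlgebra.of B (G × G)).comp (MonoidHom.inr G G))).comp Φ))
    (h1 : (ev (AlgHom.id R B) 1).comp Φ = (Algebra.ofId R B).comp (Bialgebra.counitAlgHom R A)) :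
    IsFam Φ := by
  refine ⟨?_, h1⟩
  have e : ∀ k : G →* G × G, (MonoidAlgebra.mapDomainAlgHom R B k : MonoidAlgebra B G →ₐ[R] _) =
      ev MonoidAlgebra.singleOneAlgHom ((MonoidAlgebra.of B (G × G)).comp k) := fun k => by
    rw [← ev_comp_mapDomain, ev_of, AlgHom.id_comp]
  rw [e, e, e, ← h]
  congr 2
  ext g
  simp [MonoidAlgebra.of_apply, MonoidAlgebra.single_mul_single]

theorem IsFam.map (hΦ : IsFam Φ) (f : B →ₐ[R] C) : IsFam ((MonoidAlgebra.mapAlgHom G f).comp Φ) := by
  refine isFam_of_points _ ?_ ?_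
  · simp only [← AlgHom.comp_assoc, ev_comp_mapAlgHom]
    exact hΦ.ev_mul _ _ _
  · rw [← AlgHom.comp_assoc, ev_comp_mapAlgHom]
    exact hΦ.ev_one _

/-- The coefficient of a family at a character. -/
def cf (Φ : A →ₐ[R] MonoidAlgebra B G) (g : G) : A →ₗ[R] B :=
  Finsupp.lapply g ∘ₗ (MonoidAlgebra.coeffLinearEquiv R).toLinearMap ∘ₗ Φ.toLinearMap

theorem cf_apply (Φ : A →ₐ[R] MonoidAlgebra B G) (g : G) (a : A) : cf Φ g a = (Φ a).coeff g := rfl

@[simp] theorem cf_map (Φ : A →ₐ[R] MonoidAlgebra B G) (f : B →ₐ[R] C) (g : G) (a : A) :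
    cf ((MonoidAlgebra.mapAlgHom G f).comp Φ) g a = f (cf Φ g a) := by
  simp [cf_apply]

open scoped Classical in
theorem coeff_inl_mul_inr (x y : MonoidAlgebra B G) (a b : G) :
    (MonoidAlgebra.mapDomainAlgHom R B (MonoidHom.inl G G) x *
      MonoidAlgebra.mapDomainAlgHom R B (MonoidHom.inr G G) y).coeff (a, b) = x.coeff a * y.coeff b := by
  induction x using MonoidAlgebra.induction_linear with
  | zero => simp
  | add p q hp hq => simp only [map_add, add_mul, MonoidAlgebra.coeff_add, Finsupp.add_apply, hp, hq]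
  | single g c =>
    induction y using MonoidAlgebra.induction_linear with
    | zero => simp
    | add p q hp hq => simp only [map_add, mul_add, MonoidAlgebra.coeff_add, Finsupp.add_apply, hp, hq]
    | single g' c' =>
      simp only [MonoidAlgebra.mapDomainAlgHom_apply, MonoidAlgebra.mapDomain_single,
        MonoidAlgebra.single_mul_single, MonoidAlgebra.coeff_single, Finsupp.single_apply,
        MonoidHom.inl_apply, MonoidHom.inr_apply, Prod.mk_mul_mk, mul_one, one_mul, Prod.mk.injEq]
      split_ifs <;> simp_all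

open scoped Classical in
/-- The coefficients are orthogonal idempotents for the product of points. -/
theorem IsFam.conv_cf (hΦ : IsFam Φ) (a b : G) (x : A) :
    LinearMap.mul' R B (TensorProduct.map (cf Φ a) (cf Φ b) (Coalgebra.comul (R := R) x)) =
      if a = b then cf Φ a x else 0 := by
  have h := congrArg (fun f : A →ₐ[R] MonoidAlgebra B (G × G) => (f x).coeff (a, b)) hΦ.mul
  simp only [AlgHom.comp_apply, conv_apply] at h
  have e : ∀ z : A ⊗[R] A, (Algebra.TensorProduct.lift
      ((MonoidAlgebra.mapDomainAlgHom R B (MonoidHom.inl G G)).comp Φ)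
      ((MonoidAlgebra.mapDomainAlgHom R B (MonoidHom.inr G G)).comp Φ) (fun _ _ => Commute.all _ _) z).coeff (a, b) =
      LinearMap.mul' R B (TensorProduct.map (cf Φ a) (cf Φ b) z) := fun z => by
    induction z using TensorProduct.induction_on with
    | zero => simp
    | tmul p q =>
      rw [Algebra.TensorProduct.lift_tmul, AlgHom.comp_apply, AlgHom.comp_apply, coeff_inl_mul_inr]
      simp [cf_apply]
    | add p q hp hq => simp [hp, hq]
  rw [e] at h
  rw [← h, cf_apply]
  clear h e
  generalize Φ x = y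
  induction y using MonoidAlgebra.induction_linear with
  | zero => simp
  | add p q hp hq => simp only [map_add, MonoidAlgebra.coeff_add, Finsupp.add_apply, hp, hq]; split_ifs <;> simp
  | single g c =>
    simp only [MonoidAlgebra.mapDomainAlgHom_apply, MonoidAlgebra.mapDomain_single,
      MonoidAlgebra.coeff_single, Finsupp.single_apply, MonoidHom.prod_apply, MonoidHom.id_apply,
      Prod.mk.injEq]
    split_ifs <;> first | rfl | (obtain ⟨rfl, rfl⟩ := ‹_ ∧ _›; simp_all) | simp_all

/-- The coefficients add up to the counit. -/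
theorem IsFam.sum_cf (hΦ : IsFam Φ) (x : A) (s : Finset G) (hs : ∀ g ∉ s, cf Φ g x = 0) :
    ∑ g ∈ s, cf Φ g x = algebraMap R B (Coalgebra.counit (R := R) x) := by
  have h := AlgHom.congr_fun hΦ.one x
  rw [AlgHom.comp_apply, ev_one_apply] at h
  refine Eq.trans ?_ h
  refine (Finsupp.sum_of_support_subset _ (fun g hg => ?_) (fun _ b => b) fun _ _ => rfl).symm
  by_contra hne
  exact Finsupp.mem_support_iff.1 hg (hs g hne)

end Groth.Misc15.HomMT
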