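import Groth.Agent.Misc15.HomMT.GrpBialg
import Groth.Agent.GrassRep.Pts
import Groth.Prelude.Def_AutFam

/-!
Families of homomorphisms into an affine group, over algebras trivialising the source, as families of
rings maps into monoid algebras.
-/

set_option autoImplicit false
set_option linter.style.haveILetI false
set_option linter.unusedSectionVars false
set_option synthInstance.maxHeartbeats 200000

universe u

open CategoryTheory CategoryTheory.Limits MonoidalCategory CartesianMonoidalCategory MonObj AlgebraicGeometry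
open scoped TensorProduct

noncomputable section

namespace Groth.Misc15.HomMT

open Groth.Misc15.SemilocInj Groth.Misc15.TorusDvr Groth.Reductive.MTInt

variable {R : Type u} [CommRing R]

theorem comp_lift_pl {X Y : Over (Spec (CommRingCat.of R))} {C C' : Type u} [CommRing C] [Algebra R C]
    [CommRing C'] [Algebra R C'] (f : C →ₐ[R] C') (a : SemilocInj.Pt X C) (b : SemilocInj.Pt Y C) :
    pl f (lift a b) = lift (pl f a) (pl f b) :=
  comp_lift _ _ _

theorem pl_comp {X Y : Over (Spec (CommRingCat.of R))} {C C' : Type u} [CommRing C] [Algebra R C]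
    [CommRing C'] [Algebra R C'] (f : C →ₐ[R] C') (a : SemilocInj.Pt X C) (m : X ⟶ Y) :
    pl f (a ≫ m) = pl f a ≫ m :=
  (Category.assoc _ _ _).symm

theorem pl_id' {X : Over (Spec (CommRingCat.of R))} {C : Type u} [CommRing C] [Algebra R C]
    (a : SemilocInj.Pt X C) : pl (AlgHom.id R C) a = a := by
  show spMap _ _ _ _ ≫ a = a
  rw [show spMap (AlgHom.id R C).toRingHom _ _ (AlgHom.id R C).comp_algebraMap = 𝟙 _ from spMap_id _,
    Category.id_comp]

theorem hom_ext_pts {X Y : Over (Spec (CommRingCat.of R))} {a b : X ⟶ Y}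
    (h : ∀ (C : Type u) [CommRing C] [Algebra R C] (g : SemilocInj.Pt X C), g ≫ a = g ≫ b) : a = b :=
  Groth.GrassRep.hom_ext a b fun C g => h C g

variable {H : Over (Spec (CommRingCat.of R))} [GrpObj H] {R' : Type u} [CommRing R'] [Algebra R R']
  (τ : Triv H (sp (algebraMap R R'))) {C C' : Type u} [CommRing C] [Algebra R C] [CommRing C'] [Algebra R C']

/-- The group of characters, written multiplicatively. -/
abbrev Chr : Type := Multiplicative τ.M

/-- The structure of the group algebra over a chart. -/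
abbrev ιC (β : R' →ₐ[R] C) : R' →ₐ[R] MonoidAlgebra C (Chr τ) :=
  (MonoidAlgebra.singleOneAlgHom : C →ₐ[R] MonoidAlgebra C (Chr τ)).comp β

/-- The universal point of the source over a chart. -/
def hU (β : R' →ₐ[R] C) : SemilocInj.Pt H (MonoidAlgebra C (Chr τ)) :=
  (ch τ (ιC τ β)).symm (MonoidAlgebra.of C (Chr τ))

theorem pl_ev_hU (β : R' →ₐ[R] C) (f : C →ₐ[R] C') (h : SemilocInj.Pt H C') :
    pl (ev f (ch τ (f.comp β) h)) (hU τ β) = h := by
  refine (ch τ (f.comp β)).injective ?_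
  have e : (ev f (ch τ (f.comp β) h)).comp (ιC τ β) = f.comp β := AlgHom.ext fun r => by simp [ιC]
  rw [← ch_congr τ e, ch_pl, hU, MulEquiv.apply_symm_apply]
  exact MonoidHom.ext fun g => by simp [MonoidAlgebra.of_apply]

theorem ch_pl' (β : R' →ₐ[R] C) (f : C →ₐ[R] C') (h : SemilocInj.Pt H C) :
    ch τ (f.comp β) (pl f h) = (f : C →* C').comp (ch τ β h) :=
  ch_pl τ β f h

variable {G : Over (Spec (CommRingCat.of R))} [GrpObj G] [IsAffine G.left] {Z : Over (Spec (CommRingCat.of R))}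
  (φ : H ⊗ Z ⟶ G)

/-- The map on functions of a family over an algebra. -/
def famOf (z : SemilocInj.Pt Z C) (β : R' →ₐ[R] C) : Ob G →ₐ[R] MonoidAlgebra C (Chr τ) :=
  ptAlg (lift (hU τ β) (pl MonoidAlgebra.singleOneAlgHom z) ≫ φ)

theorem famOf_key (z : SemilocInj.Pt Z C) (β : R' →ₐ[R] C) (f : C →ₐ[R] C') (h : SemilocInj.Pt H C') :
    ptAlg (lift h (pl f z) ≫ φ) = (ev f (ch τ (f.comp β) h)).comp (famOf τ φ z β) := by
  rw [famOf, ← ptAlg_pl, pl_comp, comp_lift_pl, pl_ev_hU, pl_pl]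
  congr 4
  exact AlgHom.ext fun r => by simp

theorem famOf_key_id (z : SemilocInj.Pt Z C) (β : R' →ₐ[R] C) (h : SemilocInj.Pt H C) :
    ptAlg (lift h z ≫ φ) = (ev (AlgHom.id R C) (ch τ β h)).comp (famOf τ φ z β) := by
  have := famOf_key τ φ z β (AlgHom.id R C) h
  rwa [pl_id', ch_congr τ (AlgHom.id_comp β)] at this

theorem famOf_map (z : SemilocInj.Pt Z C) (β : R' →ₐ[R] C) (f : C →ₐ[R] C') :
    famOf τ φ (pl f z) (f.comp β) = (MonoidAlgebra.mapAlgHom (Chr τ) f).comp (famOf τ φ z β) := by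
  rw [famOf, pl_pl, famOf_key τ φ z β]
  congr 1
  have e : (MonoidAlgebra.mapAlgHom (Chr τ) f : MonoidAlgebra C (Chr τ) →ₐ[R] _) =
      ev ((MonoidAlgebra.singleOneAlgHom : C' →ₐ[R] MonoidAlgebra C' (Chr τ)).comp f) (MonoidAlgebra.of C' (Chr τ)) := by
    rw [← ev_comp_mapAlgHom, ev_of, AlgHom.id_comp]
  rw [e]
  congr 1
  rw [ch_congr τ (show ((MonoidAlgebra.singleOneAlgHom : C' →ₐ[R] MonoidAlgebra C' (Chr τ)).comp f).comp β =
    ιC τ (f.comp β) from rfl), hU, MulEquiv.apply_symm_apply]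

theorem famOf_comp {Z' : Over (Spec (CommRingCat.of R))} (v : Z' ⟶ Z) (z : SemilocInj.Pt Z' C) (β : R' →ₐ[R] C) :
    famOf τ ((H ◁ v) ≫ φ) z β = famOf τ φ (z ≫ v) β := by
  simp only [famOf, lift_whiskerLeft_assoc, pl_comp]

theorem fam_one (hφ : AutFam.IsHomFamily H G φ) {W : Over (Spec (CommRingCat.of R))} (t : W ⟶ Z) :
    lift 1 t ≫ φ = 1 := by
  have := hφ W 1 1 t
  rw [_root_.one_mul] at this
  exact left_eq_mul.1 this

theorem isFam_famOf (hφ : AutFam.IsHomFamily H G φ) (z : SemilocInj.Pt Z C) (β : R' →ₐ[R] C) :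
    IsFam (famOf τ φ z β) := by
  refine isFam_of_points _ ?_ ?_
  · let f : C →ₐ[R] MonoidAlgebra C (Chr τ × Chr τ) := MonoidAlgebra.singleOneAlgHom
    let oL := (MonoidAlgebra.of C (Chr τ × Chr τ)).comp (MonoidHom.inl (Chr τ) (Chr τ))
    let oR := (MonoidAlgebra.of C (Chr τ × Chr τ)).comp (MonoidHom.inr (Chr τ) (Chr τ))
    have key : ∀ o, (ev f o).comp (famOf τ φ z β) = ptAlg (lift ((ch τ (f.comp β)).symm o) (pl f z) ≫ φ) := fun o => by
      rw [famOf_key τ φ z β, MulEquiv.apply_symm_apply]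
    show (ev f (oL * oR)).comp _ = conv ((ev f oL).comp _) ((ev f oR).comp _)
    rw [key, key, key, conv_ptAlg, map_mul, hφ]
  · have := famOf_key_id τ φ z β 1
    rw [map_one, fam_one φ hφ] at this
    rw [← this, ← counit_ptAlg]

end Groth.Misc15.HomMT
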