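import Groth.Agent.Misc15.HomMT.Quasifinite
import Groth.Agent.Misc15.HomMT.Bridge

/-!
The scheme of homomorphisms into a smooth affine group from a group trivialised by a chart, over the
chart, with its invariant.
-/

set_option autoImplicit false
set_option linter.style.haveILetI false
set_option linter.unusedSectionVars false
set_option synthInstance.maxHeartbeats 200000

universe u

open CategoryTheory CategoryTheory.Limits MonoidalCategory CartesianMonoidalCategory MonObj AlgebraicGeometry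
open scoped TensorProduct

noncomputable section

namespace Groth.Misc15.HomMT

open Groth.Misc15.SemilocInj Groth.Misc15.TorusDvr Groth.Reductive.MTInt
open Groth.GrassRep (ptMap)

variable {R : Type u} [CommRing R] {H G : Over (Spec (CommRingCat.of R))} [GrpObj H] [GrpObj G]
  [IsAffine G.left] [Algebra.FinitePresentation R (Ob G)] (F : FinComod R (Ob G))
  {R' : Type u} [CommRing R'] [Algebra R R'] (τ : Triv H (sp (algebraMap R R')))
  {C C' : Type u} [CommRing C] [Algebra R C] [CommRing C'] [Algebra R C']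

/-- The chart as an object over the base. -/
abbrev X₀ (R' : Type u) [CommRing R'] [Algebra R R'] : Over (Spec (CommRingCat.of R)) := sp (algebraMap R R')

/-- The representing object over the chart, over the base. -/
abbrev P₀ : Over (Spec (CommRingCat.of R)) := homS (G := Chr τ) F ⊗ X₀ (R := R) R'

theorem exists_betaOf (w : SemilocInj.Pt (X₀ (R := R) R') C) :
    ∃ β : R' →ₐ[R] C, w = ptMap (A := CommAlgCat.of R R') (B := CommAlgCat.of R C) (CommAlgCat.ofHom β) := by
  obtain ⟨φ, hφ⟩ := Groth.GrassRep.exists_ptMap (A := CommAlgCat.of R R') (B := CommAlgCat.of R C) w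
  exact ⟨φ.hom, hφ⟩

/-- The algebra map of a point of the chart. -/
def betaOf (w : SemilocInj.Pt (X₀ (R := R) R') C) : R' →ₐ[R] C := (exists_betaOf w).choose

theorem betaOf_spec (w : SemilocInj.Pt (X₀ (R := R) R') C) :
    w = ptMap (A := CommAlgCat.of R R') (B := CommAlgCat.of R C) (CommAlgCat.ofHom (betaOf w)) :=
  (exists_betaOf w).choose_spec

theorem betaOf_pl (f : C →ₐ[R] C') (w : SemilocInj.Pt (X₀ (R := R) R') C) :
    betaOf (pl f w) = f.comp (betaOf w) := by
  have h : ptMap (A := CommAlgCat.of R R') (B := CommAlgCat.of R C') (CommAlgCat.ofHom (betaOf (pl f w))) =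
      ptMap (A := CommAlgCat.of R R') (CommAlgCat.ofHom (betaOf w) ≫ CommAlgCat.ofHom f) := by
    rw [← betaOf_spec, Groth.GrassRep.ptMap_comp, ← betaOf_spec]
    rfl
  exact congrArg (fun k => k.hom) (ptMap_injective h)

/-- The family of a point of the scheme of homomorphisms. -/
def phiOf (a : SemilocInj.Pt (homS (G := Chr τ) F) C) : Ob G →ₐ[R] MonoidAlgebra C (Chr τ) :=
  ((eqvHomS F (CommAlgCat.of R C)).symm a).1

theorem phiOf_pl (f : C →ₐ[R] C') (a : SemilocInj.Pt (homS (G := Chr τ) F) C) :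
    phiOf F τ (pl f a) = (MonoidAlgebra.mapAlgHom (Chr τ) f).comp (phiOf F τ a) := by
  have h : (eqvHomS F (CommAlgCat.of R C')).symm (pl f a) =
      ⟨_, ((eqvHomS F (CommAlgCat.of R C)).symm a).2.map f⟩ := by
    apply (eqvHomS F (CommAlgCat.of R C')).injective
    rw [Equiv.apply_symm_apply]
    have := eqvHomS_comp F (B := CommAlgCat.of R C) (C := CommAlgCat.of R C') (CommAlgCat.ofHom f)
      ((eqvHomS F (CommAlgCat.of R C)).symm a)
    rw [Equiv.apply_symm_apply] at this
    exact this.symm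
  exact congrArg Subtype.val h

theorem isFam_phiOf (a : SemilocInj.Pt (homS (G := Chr τ) F) C) : IsFam (phiOf F τ a) :=
  ((eqvHomS F (CommAlgCat.of R C)).symm a).2

theorem phiOf_eqv (Φ : {Φ : Ob G →ₐ[R] MonoidAlgebra C (Chr τ) // IsFam Φ}) :
    phiOf F τ (eqvHomS F (CommAlgCat.of R C) Φ) = Φ.1 :=
  congrArg Subtype.val ((eqvHomS F (CommAlgCat.of R C)).symm_apply_apply Φ)

theorem phiOf_injective {a b : SemilocInj.Pt (homS (G := Chr τ) F) C} (h : phiOf F τ a = phiOf F τ b) : a = b :=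
  (eqvHomS F (CommAlgCat.of R C)).symm.injective (Subtype.ext h)

/-- The value of the universal family at a point. -/
def valAt (g : SemilocInj.Pt (H ⊗ P₀ F τ) C) : SemilocInj.Pt G C :=
  pl ((ev (AlgHom.id R C) (ch τ (betaOf (g ≫ snd H (P₀ F τ) ≫ snd _ _)) (g ≫ fst H (P₀ F τ)))).comp
    (phiOf F τ (g ≫ snd H (P₀ F τ) ≫ fst _ _))) (univ G)

theorem valAt_pl (f : C →ₐ[R] C') (g : SemilocInj.Pt (H ⊗ P₀ F τ) C) :
    valAt F τ (pl f g) = pl f (valAt F τ g) := by
  rw [valAt, valAt, pl_pl, ← pl_comp, ← pl_comp, ← pl_comp, betaOf_pl, phiOf_pl, ch_pl', ← AlgHom.comp_assoc,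
    ← AlgHom.comp_assoc, ev_comp_mapAlgHom, comp_ev, AlgHom.id_comp, AlgHom.comp_id]

theorem exists_upsilon : ∃ υ : H ⊗ P₀ F τ ⟶ G, ∀ (C : Type u) [CommRing C] [Algebra R C]
    (g : SemilocInj.Pt (H ⊗ P₀ F τ) C), g ≫ υ = valAt F τ g := by
  obtain ⟨υ, hυ⟩ := Groth.GrassRep.exists_hom_of_pts (X := H ⊗ P₀ F τ) (Y := G)
    (fun C g => valAt F τ (C := C) g) fun B C φ g => valAt_pl F τ φ.hom g
  exact ⟨υ, fun C _ _ g => hυ (CommAlgCat.of R C) g⟩

/-- The universal family. -/
def upsilon : H ⊗ P₀ F τ ⟶ G := (exists_upsilon F τ).choose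

theorem ptAlg_upsilon (h : SemilocInj.Pt H C) (a : SemilocInj.Pt (P₀ F τ) C) :
    ptAlg (lift h a ≫ upsilon F τ) =
      (ev (AlgHom.id R C) (ch τ (betaOf (a ≫ snd _ _)) h)).comp (phiOf F τ (a ≫ fst _ _)) := by
  rw [show lift h a ≫ upsilon F τ = valAt F τ (lift h a) from (exists_upsilon F τ).choose_spec C _, valAt,
    ptAlg_pl_univ, lift_snd_assoc, lift_snd_assoc, lift_fst]

theorem famOf_upsilon (a : SemilocInj.Pt (P₀ F τ) C) :
    famOf τ (upsilon F τ) a (betaOf (a ≫ snd _ _)) = phiOf F τ (a ≫ fst _ _) := by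
  rw [famOf, ptAlg_upsilon, ← pl_comp, ← pl_comp, betaOf_pl, phiOf_pl, ← AlgHom.comp_assoc, ev_comp_mapAlgHom,
    hU, MulEquiv.apply_symm_apply, AlgHom.id_comp, ev_of, AlgHom.id_comp]

theorem isHomFamily_upsilon : AutFam.IsHomFamily H G (upsilon F τ) := by
  intro W x y t
  refine hom_ext_pts fun C _ _ g => ptAlg_inj ?_
  rw [comp_lift_assoc, MonObj.comp_mul, MonObj.comp_mul, comp_lift_assoc, comp_lift_assoc, ← conv_ptAlg,
    ptAlg_upsilon, ptAlg_upsilon, ptAlg_upsilon, map_mul, (isFam_phiOf F τ _).ev_mul]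

theorem existsUnique_classify {W : Over (Spec (CommRingCat.of R))} (w : W ⟶ X₀ (R := R) R') (φ : H ⊗ W ⟶ G)
    (hφ : AutFam.IsHomFamily H G φ) :
    ∃! a : W ⟶ P₀ F τ, a ≫ snd _ _ = w ∧ (H ◁ a) ≫ upsilon F τ = φ := by
  obtain ⟨a₁, ha₁⟩ := Groth.GrassRep.exists_hom_of_pts (X := W) (Y := homS (G := Chr τ) F)
    (fun C z => eqvHomS F C ⟨famOf τ φ (C := C) z (betaOf (z ≫ w)), isFam_famOf τ φ hφ z _⟩) fun B C f z => by
      rw [← eqvHomS_comp]
      refine congrArg _ (Subtype.ext ?_)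
      show famOf τ φ (pl f.hom z) (betaOf (pl f.hom z ≫ w)) = _
      rw [← pl_comp, betaOf_pl, famOf_map]
  have hkey : ∀ (C : Type u) [CommRing C] [Algebra R C] (z : SemilocInj.Pt W C),
      phiOf F τ (z ≫ a₁) = famOf τ φ z (betaOf (z ≫ w)) := fun C _ _ z =>
    (congrArg (phiOf F τ) (ha₁ (CommAlgCat.of R C) z)).trans (phiOf_eqv F τ _)
  refine ⟨lift a₁ w, ⟨lift_snd _ _, hom_ext_pts fun C _ _ g => ptAlg_inj ?_⟩, fun b hb => ?_⟩
  · have e : g = lift (g ≫ fst H W) (g ≫ snd H W) := by ext1 <;> simp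
    rw [e, lift_whiskerLeft_assoc, ptAlg_upsilon]
    simp only [Category.assoc, lift_fst, lift_snd, comp_lift, comp_lift_assoc]
    rw [← Category.assoc g (snd H W) w, ← Category.assoc g (snd H W) a₁, hkey, famOf_key_id τ φ]
  · refine CartesianMonoidalCategory.hom_ext _ _ ?_ (by rw [lift_snd, hb.1])
    rw [lift_fst]
    refine hom_ext_pts fun C _ _ z => phiOf_injective F τ ?_
    rw [hkey, ← Category.assoc, ← famOf_upsilon, ← famOf_comp τ (upsilon F τ) b, hb.2, Category.assoc, hb.1]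

/-- Two points with the same family have the same invariant. -/
theorem invMap_eq_of_pts {a a' : SemilocInj.Pt (P₀ F τ) C} (h : (H ◁ a) ≫ upsilon F τ = (H ◁ a') ≫ upsilon F τ) :
    a ≫ fst _ _ ≫ invMap F = a' ≫ fst _ _ ≫ invMap F := by
  have hpt : ∀ (D : Type u) [CommRing D] [Algebra R D] (f : C →ₐ[R] D) (x : SemilocInj.Pt H D),
      lift x (pl f a) ≫ upsilon F τ = lift x (pl f a') ≫ upsilon F τ := fun D _ _ f x => by
    have := congrArg (fun m => lift x (spMap f.toRingHom _ _ f.comp_algebraMap) ≫ m) h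
    simp only [lift_whiskerLeft_assoc] at this
    exact this
  set β := betaOf (a ≫ snd _ _)
  set β' := betaOf (a' ≫ snd _ _)
  set jC := (MonoidAlgebra.singleOneAlgHom : C →ₐ[R] MonoidAlgebra C (Chr τ))
  set Θ := ch τ (ιC τ β) (hU τ β')
  set Θ' := ch τ (ιC τ β') (hU τ β)
  have hΦ : phiOf F τ (a' ≫ fst _ _) = (tw Θ).comp (phiOf F τ (a ≫ fst _ _)) := by
    rw [← famOf_upsilon F τ a', ← famOf_upsilon F τ a]
    show ptAlg (lift (hU τ β') (pl jC a') ≫ upsilon F τ) = _
    rw [← hpt _ jC, famOf_key τ (upsilon F τ) a β jC]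
  have hgl : IsGL (R := R) Θ := by
    refine ⟨fun g => ?_, fun g => ?_⟩
    · let d : ∀ k : Chr τ →* Chr τ × Chr τ, MonoidAlgebra C (Chr τ) →ₐ[R] MonoidAlgebra C (Chr τ × Chr τ) :=
        MonoidAlgebra.mapDomainAlgHom R C
      let j : C →ₐ[R] MonoidAlgebra C (Chr τ × Chr τ) := MonoidAlgebra.singleOneAlgHom
      have hj : ∀ (k : Chr τ →* Chr τ × Chr τ) (b : R' →ₐ[R] C), (d k).comp (ιC τ b) = j.comp b := fun k b =>
        AlgHom.ext fun r => by simp [d, ιC, j]
      have hd : ∀ k, (ch τ (j.comp β')) (pl (d k) (hU τ β')) =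
          (MonoidAlgebra.of C (Chr τ × Chr τ)).comp k := fun k => by
        rw [← ch_congr τ (hj k β'), ch_pl', hU, MulEquiv.apply_symm_apply]
        exact MonoidHom.ext fun y => by simp [d, MonoidAlgebra.of_apply]
      have hmul : pl (d ((MonoidHom.id (Chr τ)).prod (MonoidHom.id (Chr τ)))) (hU τ β') =
          pl (d (MonoidHom.inl (Chr τ) (Chr τ))) (hU τ β') * pl (d (MonoidHom.inr (Chr τ) (Chr τ))) (hU τ β') := by
        apply (ch τ (j.comp β')).injective
        rw [map_mul, hd, hd, hd]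
        exact MonoidHom.ext fun y => by simp [MonoidAlgebra.of_apply, MonoidAlgebra.single_mul_single]
      have := congrArg (fun x => ch τ (j.comp β) x g) hmul
      simp only [map_mul, MonoidHom.mul_apply] at this
      rw [← ch_congr τ (hj _ β), ch_pl', ← ch_congr τ (hj (MonoidHom.inl (Chr τ) (Chr τ)) β),
        ch_pl', ← ch_congr τ (hj (MonoidHom.inr (Chr τ) (Chr τ)) β), ch_pl'] at this
      exact this
    · have h1 : pl (ev (AlgHom.id R C) 1) (hU τ β') = 1 := by
        have := pl_ev_hU τ β' (AlgHom.id R C) (1 : SemilocInj.Pt H C)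
        rwa [map_one] at this
      have e : (ev (AlgHom.id R C) (1 : Chr τ →* C)).comp (ιC τ β) = β := AlgHom.ext fun r => by simp [ιC]
      have := congrArg (fun x => ch τ β x g) h1
      simp only [map_one, MonoidHom.one_apply] at this
      rw [← ch_congr τ e, ch_pl'] at this
      exact this
  have hinv : (tw (R := R) Θ').comp (tw Θ) = AlgHom.id R _ := by
    have e : ∀ b : R' →ₐ[R] C, (tw (R := R) Θ').comp (ιC τ b) = ιC τ b := fun b => AlgHom.ext fun r => by
      simp [ιC]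
    have h2 : pl (tw (R := R) Θ') (hU τ β') = hU τ β := pl_ev_hU τ β' jC (hU τ β)
    have h3 : ch τ (ιC τ β) (pl (tw (R := R) Θ') (hU τ β')) = MonoidAlgebra.of C (Chr τ) := by
      rw [h2, hU, MulEquiv.apply_symm_apply]
    rw [← ch_congr τ (e β), ch_pl'] at h3
    rw [comp_ev, show (tw (R := R) Θ').comp MonoidAlgebra.singleOneAlgHom = jC from AlgHom.ext fun c => by simp [jC],
      ← ev_of C]
    exact congrArg _ h3
  have hinv' : cmap (genA F) (phiOf F τ (a' ≫ fst _ _)) = cmap (genA F) (phiOf F τ (a ≫ fst _ _)) := by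
    rw [hΦ]
    exact cmap_tw _ _ hgl hinv
  have hc : ∀ b : SemilocInj.Pt (homS (G := Chr τ) F) C, b ≫ invMap F =
      ptMap (B := CommAlgCat.of R C) (CommAlgCat.ofHom (cmap (genA F) (phiOf F τ b))) := fun b => by
    have := invMap_spec F (CommAlgCat.of R C) ((eqvHomS F (CommAlgCat.of R C)).symm b)
    rw [Equiv.apply_symm_apply] at this
    exact this
  rw [← Category.assoc, ← Category.assoc, hc, hc, hinv']

theorem invMap_eq {W : Over (Spec (CommRingCat.of R))} {a a' : W ⟶ P₀ F τ}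
    (h : (H ◁ a) ≫ upsilon F τ = (H ◁ a') ≫ upsilon F τ) : a ≫ fst _ _ ≫ invMap F = a' ≫ fst _ _ ≫ invMap F := by
  refine hom_ext_pts fun C _ _ g => ?_
  rw [← Category.assoc g a, ← Category.assoc g a']
  refine invMap_eq_of_pts F τ ?_
  rw [whiskerLeft_comp, whiskerLeft_comp, Category.assoc, Category.assoc, h]

end Groth.Misc15.HomMT
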