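import Mathlib


/-!
A smooth affine monoid over any ring comes from a smooth one over a Noetherian subring, so that its
coordinate ring receives a finite semi-comodule containing generators.
-/

set_option autoImplicit false
set_option linter.style.haveILetI false
set_option linter.unusedSectionVars false
set_option synthInstance.maxHeartbeats 400000

universe u

open TensorProduct

noncomputable section

namespace Groth.Misc15.HomMT

/-- A finite module with a coaction and an equivariant map to the coordinate ring whose range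
generates. -/
structure FinComod (R A : Type u) [CommRing R] [CommRing A] [Bialgebra R A] where
  /-- the module -/
  V : Type u
  [addV : AddCommGroup V]
  [modV : Module R V]
  [finV : Module.Finite R V]
  /-- the map to the coordinate ring -/
  toA : V →ₗ[R] A
  /-- the coaction -/
  ρ : V →ₗ[R] V ⊗[R] A
  counit : ∀ v, TensorProduct.rid R V ((Coalgebra.counit (R := R)).lTensor V (ρ v)) = v
  coassoc : ∀ v, TensorProduct.assoc R V A A (ρ.rTensor A (ρ v)) =
    (Coalgebra.comul (R := R) (A := A)).lTensor V (ρ v)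
  compat : ∀ v, toA.rTensor A (ρ v) = Coalgebra.comul (R := R) (toA v)
  gen : Algebra.adjoin R (Set.range toA) = ⊤

attribute [instance] FinComod.addV FinComod.modV FinComod.finV

section BaseChange

variable {R₁ : Type u} [CommRing R₁] {R : Type u} [CommRing R] [Algebra R₁ R]

theorem injective_of_isBaseChange (hinj : Function.Injective (algebraMap R₁ R)) {M N : Type u}
    [AddCommGroup M] [Module R₁ M] [Module.Flat R₁ M] [AddCommGroup N] [Module R₁ N] [Module R N]
    [IsScalarTower R₁ R N] {f : M →ₗ[R₁] N} (hf : IsBaseChange R f) : Function.Injective f := by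
  intro x y h
  have h' : (1 : R) ⊗ₜ[R₁] x = 1 ⊗ₜ y := by
    rw [← hf.equiv_symm_apply, ← hf.equiv_symm_apply, h]
  have hr : Function.Injective ((Algebra.linearMap R₁ R).rTensor M) :=
    Module.Flat.rTensor_preserves_injective_linearMap _ hinj
  have : (1 : R₁) ⊗ₜ[R₁] x = 1 ⊗ₜ y := hr (by simpa using h')
  simpa using congrArg (TensorProduct.lid R₁ M) this

theorem isBaseChange_map {M N M' N' : Type u}
    [AddCommGroup M] [Module R₁ M] [AddCommGroup N] [Module R₁ N] [Module R N] [IsScalarTower R₁ R N]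
    [AddCommGroup M'] [Module R₁ M'] [AddCommGroup N'] [Module R₁ N'] [Module R N'] [IsScalarTower R₁ R N']
    {f : M →ₗ[R₁] N} (hf : IsBaseChange R f) {g : M' →ₗ[R₁] N'} (hg : IsBaseChange R g)
    (k : M ⊗[R₁] M' →ₗ[R₁] N ⊗[R] N') (hk : ∀ a b, k (a ⊗ₜ b) = f a ⊗ₜ g b) : IsBaseChange R k := by
  refine IsBaseChange.of_equiv
    ((TensorProduct.AlgebraTensorModule.distribBaseChange R₁ R M M').trans (TensorProduct.congr hf.equiv hg.equiv))
    fun x => ?_
  induction x using TensorProduct.induction_on with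
  | zero => simp
  | tmul a b => simp [hk]
  | add a b ha hb => simp only [tmul_add, map_add, ha, hb]

end BaseChange

section Coalg

variable {R : Type u} [CommRing R] {A : Type u} [CommRing A] [Algebra R A] [Module.Flat R A] [IsNoetherianRing R]
  (δ : A →ₗ[R] A ⊗[R] A) (ε : A →ₗ[R] R)
  (hco : ∀ a, TensorProduct.assoc R A A A (δ.rTensor A (δ a)) = δ.lTensor A (δ a))
  (hε : ∀ a, TensorProduct.rid R A (ε.lTensor A (δ a)) = a)

include hco hε in
theorem exists_fg_stable (s : Finset A) :
    ∃ U : Submodule R A, U.FG ∧ (s : Set A) ⊆ U ∧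
      ∀ y ∈ U, δ y ∈ LinearMap.range (U.subtype.rTensor A) := by
  classical
  choose S hS using fun x : A => TensorProduct.exists_finset (δ x)
  set N : Submodule R A := Submodule.span R ((s.biUnion fun x => (S x).image Prod.fst : Finset A) : Set A)
  let g : A →ₗ[R] (A ⧸ N) ⊗[R] A := N.mkQ.rTensor A ∘ₗ δ
  set U := LinearMap.ker g
  have hUN : U ≤ N := by
    intro y hy
    have h := congrArg (fun z => TensorProduct.rid R (A ⧸ N) (ε.lTensor (A ⧸ N) z)) (LinearMap.mem_ker.1 hy)
    simp only [g, LinearMap.comp_apply, map_zero] at h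
    rw [← Submodule.Quotient.mk_eq_zero N, ← h]
    conv_lhs => rw [← hε y]
    generalize δ y = z
    induction z using TensorProduct.induction_on with
    | zero => simp
    | tmul a b => simp
    | add a b ha hb => simp only [map_add, Submodule.Quotient.mk_add, ha, hb]
  refine ⟨U, (Submodule.fg_span (Finset.finite_toSet _)).of_le hUN, fun x hx => ?_, fun y hy => ?_⟩
  · rw [SetLike.mem_coe, LinearMap.mem_ker]
    simp only [g, LinearMap.comp_apply]
    rw [hS x, map_sum]
    refine Finset.sum_eq_zero fun p hp => ?_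
    rw [LinearMap.rTensor_tmul, Submodule.mkQ_apply, (Submodule.Quotient.mk_eq_zero N).2
      (Submodule.subset_span (Finset.mem_coe.2 (Finset.mem_biUnion.2 ⟨x, hx, Finset.mem_image_of_mem _ hp⟩))),
      TensorProduct.zero_tmul]
  · have hex := Module.Flat.rTensor_exact A (LinearMap.exact_subtype_ker_map g)
    refine (hex _).1 ?_
    change g.rTensor A (δ y) = 0
    have e : ∀ z : A ⊗[R] A, g.rTensor A z = (TensorProduct.assoc R (A ⧸ N) A A).symm
        (N.mkQ.rTensor (A ⊗[R] A) (TensorProduct.assoc R A A A (δ.rTensor A z))) := by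
      intro z
      induction z using TensorProduct.induction_on with
      | zero => simp
      | tmul a b =>
        simp only [g, LinearMap.rTensor_tmul, LinearMap.comp_apply]
        generalize δ a = w
        induction w using TensorProduct.induction_on with
        | zero => simp
        | tmul p q => simp
        | add p q hp hq => simp only [map_add, TensorProduct.add_tmul, hp, hq]
      | add a b ha hb => simp only [map_add, ha, hb]
    rw [e, hco]
    have e' : ∀ z : A ⊗[R] A, N.mkQ.rTensor (A ⊗[R] A) (δ.lTensor A z) =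
        δ.lTensor (A ⧸ N) (N.mkQ.rTensor A z) := fun z => by
      induction z using TensorProduct.induction_on with
      | zero => simp
      | tmul a b => simp
      | add a b ha hb => simp only [map_add, ha, hb]
    rw [e', show N.mkQ.rTensor A (δ y) = 0 from hy, map_zero, map_zero]

end Coalg

section Model

variable {R : Type u} [CommRing R] {A : Type u} [CommRing A] [Bialgebra R A]
  {R₁ : Type u} [CommRing R₁] [Algebra R₁ R] {A₁ : Type u} [CommRing A₁] [Algebra R₁ A₁]
  [Algebra R₁ A] [IsScalarTower R₁ R A]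

/-- the comparison map on squares -/
def j2 (j : A₁ →ₐ[R₁] A) : A₁ ⊗[R₁] A₁ →ₐ[R₁] A ⊗[R] A :=
  Algebra.TensorProduct.lift
    (((Algebra.TensorProduct.includeLeft : A →ₐ[R] A ⊗[R] A).restrictScalars R₁).comp j)
    (((Algebra.TensorProduct.includeRight : A →ₐ[R] A ⊗[R] A).restrictScalars R₁).comp j)
    fun _ _ => Commute.all _ _

@[simp] theorem j2_tmul (j : A₁ →ₐ[R₁] A) (a b : A₁) : j2 j (a ⊗ₜ b) = j a ⊗ₜ[R] j b := by
  simp [j2]

theorem exists_finComod_of_model [IsNoetherianRing R₁] [Module.Flat R₁ A₁]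
    (hinj : Function.Injective (algebraMap R₁ R))
    (j : A₁ →ₐ[R₁] A) (hj : IsBaseChange R j.toLinearMap) (s : Finset A₁)
    (hs : Algebra.adjoin R₁ (s : Set A₁) = ⊤)
    (hΔ : ∀ a ∈ s, Coalgebra.comul (R := R) (j a) ∈ Set.range (j2 (R := R) j))
    (hε : ∀ a ∈ s, Coalgebra.counit (R := R) (j a) ∈ Set.range (algebraMap R₁ R)) :
    Nonempty (FinComod R A) := by
  have hjinj : Function.Injective j := injective_of_isBaseChange hinj hj
  have hj2 : IsBaseChange R (j2 (R := R) j).toLinearMap :=
    isBaseChange_map hj hj _ fun a b => j2_tmul j a b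
  have hj2inj : Function.Injective (j2 (R := R) j) := injective_of_isBaseChange hinj hj2
  let cA : A₁ →ₐ[R₁] A ⊗[R] A := ((Bialgebra.comulAlgHom R A).restrictScalars R₁).comp j
  have hcA : ∀ a, cA a ∈ (j2 (R := R) j).range := by
    intro a
    have : Algebra.adjoin R₁ (s : Set A₁) ≤ ((j2 (R := R) j).range).comap cA :=
      Algebra.adjoin_le fun x hx => hΔ x hx
    exact this (hs ▸ trivial)
  let δ : A₁ →ₐ[R₁] A₁ ⊗[R₁] A₁ :=
    (AlgEquiv.ofInjective (j2 (R := R) j) hj2inj).symm.toAlgHom.comp (cA.codRestrict _ hcA)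
  have hδ : ∀ a, j2 (R := R) j (δ a) = Coalgebra.comul (R := R) (j a) := fun a => by
    have := congrArg Subtype.val ((AlgEquiv.ofInjective (j2 (R := R) j) hj2inj).apply_symm_apply ⟨cA a, hcA a⟩)
    exact this
  let eA : A₁ →ₐ[R₁] R := ((Bialgebra.counitAlgHom R A).restrictScalars R₁).comp j
  have heA : ∀ a, eA a ∈ (Algebra.ofId R₁ R).range := by
    intro a
    have : Algebra.adjoin R₁ (s : Set A₁) ≤ ((Algebra.ofId R₁ R).range).comap eA :=
      Algebra.adjoin_le fun x hx => hε x hx
    exact this (hs ▸ trivial)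
  let ε : A₁ →ₐ[R₁] R₁ :=
    (AlgEquiv.ofInjective (Algebra.ofId R₁ R) hinj).symm.toAlgHom.comp (eA.codRestrict _ heA)
  have hε' : ∀ a, algebraMap R₁ R (ε a) = Coalgebra.counit (R := R) (j a) := fun a => by
    have := congrArg Subtype.val ((AlgEquiv.ofInjective (Algebra.ofId R₁ R) hinj).apply_symm_apply ⟨eA a, heA a⟩)
    exact this
  have hεid : ∀ a, TensorProduct.rid R₁ A₁ (ε.toLinearMap.lTensor A₁ (δ a)) = a := fun a => hjinj (by
    have e : ∀ z : A₁ ⊗[R₁] A₁, j (TensorProduct.rid R₁ A₁ (ε.toLinearMap.lTensor A₁ z)) =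
        TensorProduct.rid R A ((Coalgebra.counit (R := R)).lTensor A (j2 (R := R) j z)) := fun z => by
      induction z using TensorProduct.induction_on with
      | zero => simp
      | tmul p q =>
        simp only [LinearMap.lTensor_tmul, AlgHom.toLinearMap_apply, TensorProduct.rid_tmul, j2_tmul, map_smul]
        rw [← hε', algebraMap_smul]
      | add p q hp hq => simp only [map_add, hp, hq]
    rw [e, hδ, Coalgebra.lTensor_counit_comul]
    simp)
  -- the cube
  let k : A₁ ⊗[R₁] (A₁ ⊗[R₁] A₁) →ₗ[R₁] A ⊗[R] (A ⊗[R] A) :=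
    TensorProduct.lift (LinearMap.mk₂ R₁ (fun a z => j a ⊗ₜ[R] j2 (R := R) j z)
      (fun a b z => by rw [map_add, TensorProduct.add_tmul])
      (fun c a z => by rw [map_smul, TensorProduct.smul_tmul'])
      (fun a z w => by rw [map_add, TensorProduct.tmul_add])
      (fun c a z => by rw [map_smul, TensorProduct.tmul_smul]))
  have hk : IsBaseChange R k := isBaseChange_map hj hj2 k fun a b => rfl
  have hkinj : Function.Injective k := injective_of_isBaseChange hinj hk
  have hco : ∀ a, TensorProduct.assoc R₁ A₁ A₁ A₁ (δ.toLinearMap.rTensor A₁ (δ a)) = δ.toLinearMap.lTensor A₁ (δ a) :=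
    fun a => hkinj (by
      have e₁ : ∀ z : A₁ ⊗[R₁] A₁, k (TensorProduct.assoc R₁ A₁ A₁ A₁ (δ.toLinearMap.rTensor A₁ z)) =
          TensorProduct.assoc R A A A ((Coalgebra.comul (R := R)).rTensor A (j2 (R := R) j z)) := fun z => by
        induction z using TensorProduct.induction_on with
        | zero => simp
        | tmul p q =>
          simp only [LinearMap.rTensor_tmul, AlgHom.toLinearMap_apply, j2_tmul]
          rw [← hδ]
          generalize δ p = w
          induction w using TensorProduct.induction_on with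
          | zero => simp
          | tmul p' q' => simp [k]
          | add p' q' hp hq => simp only [map_add, TensorProduct.add_tmul, hp, hq]
        | add p q hp hq => simp only [map_add, hp, hq]
      have e₂ : ∀ z : A₁ ⊗[R₁] A₁, k (δ.toLinearMap.lTensor A₁ z) =
          (Coalgebra.comul (R := R)).lTensor A (j2 (R := R) j z) := fun z => by
        induction z using TensorProduct.induction_on with
        | zero => simp
        | tmul p q => simp [k, hδ]
        | add p q hp hq => simp only [map_add, hp, hq]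
      rw [e₁, e₂, hδ, Coalgebra.coassoc_apply])
  obtain ⟨U, hUfg, hsU, hU⟩ := exists_fg_stable δ.toLinearMap ε.toLinearMap hco hεid s
  haveI : Module.Finite R₁ U := Module.Finite.iff_fg.2 hUfg
  have hUinj : Function.Injective (U.subtype.rTensor A₁) :=
    Module.Flat.rTensor_preserves_injective_linearMap _ U.injective_subtype
  let ρ₁ : U →ₗ[R₁] U ⊗[R₁] A₁ :=
    (LinearEquiv.ofInjective (U.subtype.rTensor A₁) hUinj).symm.toLinearMap ∘ₗ
      (δ.toLinearMap ∘ₗ U.subtype).codRestrict _ fun y => hU y.1 y.2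
  have hρ₁ : ∀ y : U, U.subtype.rTensor A₁ (ρ₁ y) = δ y.1 := fun y => by
    have := congrArg Subtype.val ((LinearEquiv.ofInjective (U.subtype.rTensor A₁) hUinj).apply_symm_apply
      ((δ.toLinearMap ∘ₗ U.subtype).codRestrict _ (fun y => hU y.1 y.2) y))
    exact this
  have hρε : ∀ y : U, TensorProduct.rid R₁ U (ε.toLinearMap.lTensor U (ρ₁ y)) = y := fun y => by
    apply U.injective_subtype
    rw [Submodule.coe_subtype]
    refine Eq.trans ?_ (hεid y.1)
    rw [← hρ₁]
    generalize ρ₁ y = z
    induction z using TensorProduct.induction_on with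
    | zero => simp
    | tmul p q => simp
    | add p q hp hq => simp only [map_add, Submodule.coe_add, hp, hq]
  have hρco : ∀ y : U, TensorProduct.assoc R₁ U A₁ A₁ (ρ₁.rTensor A₁ (ρ₁ y)) =
      δ.toLinearMap.lTensor U (ρ₁ y) := fun y => by
    apply Module.Flat.rTensor_preserves_injective_linearMap (M := A₁ ⊗[R₁] A₁) _ U.injective_subtype
    have e₁ : ∀ z : U ⊗[R₁] A₁, U.subtype.rTensor (A₁ ⊗[R₁] A₁) (TensorProduct.assoc R₁ U A₁ A₁ (ρ₁.rTensor A₁ z)) =
        TensorProduct.assoc R₁ A₁ A₁ A₁ (δ.toLinearMap.rTensor A₁ (U.subtype.rTensor A₁ z)) := fun z => by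
      induction z using TensorProduct.induction_on with
      | zero => simp
      | tmul p q =>
        simp only [LinearMap.rTensor_tmul, Submodule.coe_subtype, AlgHom.toLinearMap_apply]
        rw [← hρ₁]
        generalize ρ₁ p = w
        induction w using TensorProduct.induction_on with
        | zero => simp
        | tmul p' q' => simp
        | add p' q' hp hq => simp only [map_add, TensorProduct.add_tmul, hp, hq]
      | add p q hp hq => simp only [map_add, hp, hq]
    have e₂ : ∀ z : U ⊗[R₁] A₁, U.subtype.rTensor (A₁ ⊗[R₁] A₁) (δ.toLinearMap.lTensor U z) =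
        δ.toLinearMap.lTensor A₁ (U.subtype.rTensor A₁ z) := fun z => by
      induction z using TensorProduct.induction_on with
      | zero => simp
      | tmul p q => simp
      | add p q hp hq => simp only [map_add, hp, hq]
    rw [e₁, e₂, hρ₁, hco]
  let toA : R ⊗[R₁] U →ₗ[R] A := LinearMap.liftBaseChange R (j.toLinearMap ∘ₗ U.subtype)
  let m : U ⊗[R₁] A₁ →ₗ[R₁] (R ⊗[R₁] U) ⊗[R] A :=
    TensorProduct.lift (LinearMap.mk₂ R₁ (fun y a => ((1 : R) ⊗ₜ[R₁] y) ⊗ₜ[R] j a)
      (fun y y' a => by rw [TensorProduct.tmul_add, TensorProduct.add_tmul])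
      (fun c y a => by simp [TensorProduct.tmul_smul, TensorProduct.smul_tmul'])
      (fun y a b => by rw [map_add, TensorProduct.tmul_add])
      (fun c y a => by rw [map_smul, TensorProduct.tmul_smul]))
  let ρ : R ⊗[R₁] U →ₗ[R] (R ⊗[R₁] U) ⊗[R] A := LinearMap.liftBaseChange R (m ∘ₗ ρ₁)
  have hρ : ∀ y, ρ (1 ⊗ₜ y) = m (ρ₁ y) := fun y => by simp [ρ]
  have htoA : ∀ y : U, toA (1 ⊗ₜ y) = j y.1 := fun y => by simp [toA]
  have hred : ∀ {P : Type u} [AddCommGroup P] [Module R P] [Module R₁ P] [IsScalarTower R₁ R P]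
      {f g : R ⊗[R₁] U →ₗ[R] P}, (∀ y, f (1 ⊗ₜ y) = g (1 ⊗ₜ y)) → ∀ v, f v = g v := by
    intro P _ _ _ _ f g h v
    induction v using TensorProduct.induction_on with
    | zero => simp
    | tmul r y =>
      rw [← mul_one r, ← smul_eq_mul, ← TensorProduct.smul_tmul', map_smul, map_smul, h]
    | add p q hp hq => rw [map_add, map_add, hp, hq]
  refine ⟨⟨R ⊗[R₁] U, toA, ρ, fun v => ?_, fun v => ?_, fun v => ?_, ?_⟩⟩
  · refine hred (f := (TensorProduct.rid R (R ⊗[R₁] U)).toLinearMap ∘ₗ
      (Coalgebra.counit (R := R) (A := A)).lTensor _ ∘ₗ ρ) (g := LinearMap.id) (fun y => ?_) v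
    simp only [LinearMap.comp_apply, LinearEquiv.coe_coe, hρ, LinearMap.id_apply]
    conv_rhs => rw [← hρε y]
    generalize ρ₁ y = z
    induction z using TensorProduct.induction_on with
    | zero => simp
    | tmul p q =>
      simp only [m, TensorProduct.lift.tmul, LinearMap.mk₂_apply, LinearMap.lTensor_tmul, TensorProduct.rid_tmul,
        AlgHom.toLinearMap_apply, TensorProduct.tmul_smul, ← hε', algebraMap_smul]
    | add p q hp hq => simp only [map_add, TensorProduct.tmul_add, hp, hq]
  · refine hred (P := (R ⊗[R₁] U) ⊗[R] (A ⊗[R] A)) (f := (TensorProduct.assoc R (R ⊗[R₁] U) A A).toLinearMap ∘ₗ ρ.rTensor A ∘ₗ ρ)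
      (g := (Coalgebra.comul (R := R) (A := A)).lTensor (R ⊗[R₁] U) ∘ₗ ρ) (fun y => ?_) v
    let m3 : U ⊗[R₁] (A₁ ⊗[R₁] A₁) →ₗ[R₁] (R ⊗[R₁] U) ⊗[R] (A ⊗[R] A) :=
      TensorProduct.lift (LinearMap.mk₂ R₁ (fun y w => ((1 : R) ⊗ₜ[R₁] y) ⊗ₜ[R] j2 (R := R) j w)
        (fun y y' a => by rw [TensorProduct.tmul_add, TensorProduct.add_tmul])
        (fun c y a => by simp [TensorProduct.tmul_smul, TensorProduct.smul_tmul'])
        (fun y a b => by rw [map_add, TensorProduct.tmul_add])
        (fun c y a => by rw [map_smul, TensorProduct.tmul_smul]))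
    have e₁ : ∀ z : U ⊗[R₁] A₁, TensorProduct.assoc R (R ⊗[R₁] U) A A (ρ.rTensor A (m z)) =
        m3 (TensorProduct.assoc R₁ U A₁ A₁ (ρ₁.rTensor A₁ z)) := fun z => by
      induction z using TensorProduct.induction_on with
      | zero => simp
      | tmul p q =>
        simp only [m, TensorProduct.lift.tmul, LinearMap.mk₂_apply, LinearMap.rTensor_tmul, hρ]
        generalize ρ₁ p = w
        induction w using TensorProduct.induction_on with
        | zero => simp
        | tmul p' q' => simp [m3]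
        | add p' q' hp hq => simp only [map_add, TensorProduct.add_tmul, hp, hq]
      | add p q hp hq => simp only [map_add, hp, hq]
    have e₂ : ∀ z : U ⊗[R₁] A₁, (Coalgebra.comul (R := R) (A := A)).lTensor (R ⊗[R₁] U) (m z) =
        m3 (δ.toLinearMap.lTensor U z) := fun z => by
      induction z using TensorProduct.induction_on with
      | zero => simp
      | tmul p q => simp [m, m3, hδ]
      | add p q hp hq => simp only [map_add, hp, hq]
    simp only [LinearMap.comp_apply, LinearEquiv.coe_coe, hρ]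
    rw [e₁, e₂, hρco]
  · refine hred (f := toA.rTensor A ∘ₗ ρ) (g := (Coalgebra.comul (R := R) (A := A)) ∘ₗ toA) (fun y => ?_) v
    simp only [LinearMap.comp_apply, hρ, htoA, ← hδ]
    rw [← hρ₁]
    generalize ρ₁ y = z
    induction z using TensorProduct.induction_on with
    | zero => simp
    | tmul p q => simp [m, htoA]
    | add p q hp hq => simp only [map_add, hp, hq]
  · refine top_le_iff.1 fun a ha => ?_
    clear ha
    have : ∀ z : A₁, j z ∈ Algebra.adjoin R (Set.range toA) := by
      intro z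
      have hle : Algebra.adjoin R₁ (s : Set A₁) ≤
          ((Algebra.adjoin R (Set.range toA)).restrictScalars R₁).comap j :=
        Algebra.adjoin_le fun x hx => Algebra.subset_adjoin ⟨1 ⊗ₜ ⟨x, hsU hx⟩, htoA _⟩
      exact hle (hs ▸ trivial)
    induction a using hj.inductionOn with
    | zero => exact zero_mem _
    | tmul m => exact this m
    | smul r n hn => exact Subalgebra.smul_mem _ hn r
    | add p q hp hq => exact add_mem hp hq

end Model

variable {R : Type u} [CommRing R] {A : Type u} [CommRing A] [Bialgebra R A]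

theorem exists_finComod [Algebra.Smooth R A] : Nonempty (FinComod R A) := by
  classical
  obtain ⟨R₀, A₀, _, _, hR₀, hA₀, ⟨e⟩⟩ := Algebra.Smooth.exists_subalgebra_fg ℤ R A
  obtain ⟨s₀, hs₀⟩ := (inferInstance : Algebra.FiniteType R₀ A₀).out
  let j₀ : A₀ →ₐ[R₀] A := (e.symm.toAlgHom.restrictScalars R₀).comp Algebra.TensorProduct.includeRight
  have hspan : ∀ z : A, ∃ T : Finset (R × A₀), z = ∑ p ∈ T, p.1 • j₀ p.2 := fun z => by
    obtain ⟨T, hT⟩ := TensorProduct.exists_finset (e z)
    refine ⟨T, e.injective ?_⟩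
    rw [hT, map_sum]
    refine Finset.sum_congr rfl fun p _ => ?_
    simp [j₀]
    show _ = p.1 • ((1 : R) ⊗ₜ[R₀] p.2)
    rw [TensorProduct.smul_tmul', smul_eq_mul, mul_one]
  have hspan2 : ∀ z : A ⊗[R] A, ∃ T : Finset R, ∀ (S : Subring R), (↑T ⊆ (S : Set R)) →
      z ∈ AddSubgroup.closure {x | ∃ c ∈ S, ∃ a b, x = c • (j₀ a ⊗ₜ[R] j₀ b)} := fun z => by
    induction z using TensorProduct.induction_on with
    | zero => exact ⟨∅, fun S _ => zero_mem _⟩
    | tmul a b =>
      obtain ⟨T, hT⟩ := hspan a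
      obtain ⟨T', hT'⟩ := hspan b
      refine ⟨T.image Prod.fst ∪ T'.image Prod.fst, fun S hS => ?_⟩
      rw [hT, hT', TensorProduct.sum_tmul]
      refine sum_mem fun p hp => ?_
      rw [TensorProduct.tmul_sum]
      refine sum_mem fun q hq => AddSubgroup.subset_closure ⟨p.1 * q.1, S.mul_mem ?_ ?_, p.2, q.2, ?_⟩
      · exact hS (Finset.mem_coe.2 (Finset.mem_union_left _ (Finset.mem_image_of_mem _ hp)))
      · exact hS (Finset.mem_coe.2 (Finset.mem_union_right _ (Finset.mem_image_of_mem _ hq)))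
      · rw [TensorProduct.tmul_smul, ← TensorProduct.smul_tmul', smul_smul, mul_comm]
    | add a b ha hb =>
      obtain ⟨T, hT⟩ := ha
      obtain ⟨T', hT'⟩ := hb
      refine ⟨T ∪ T', fun S hS => add_mem (hT S ?_) (hT' S ?_)⟩
      · exact fun x hx => hS (Finset.mem_coe.2 (Finset.mem_union_left _ hx))
      · exact fun x hx => hS (Finset.mem_coe.2 (Finset.mem_union_right _ hx))
  choose T hT using fun a : A₀ => hspan2 (Coalgebra.comul (R := R) (j₀ a))
  let R₁ : Subalgebra ℤ R := R₀ ⊔ Algebra.adjoin ℤ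
    ((s₀.biUnion T ∪ s₀.image fun a => Coalgebra.counit (R := R) (j₀ a) : Finset R) : Set R)
  haveI : IsNoetherianRing R₁ := isNoetherianRing_of_fg (hR₀.sup ⟨_, rfl⟩)
  letI : Algebra R₀ R₁ := (Subalgebra.inclusion (le_sup_left : R₀ ≤ R₁)).toRingHom.toAlgebra
  haveI : IsScalarTower R₀ R₁ R := IsScalarTower.of_algebraMap_eq fun _ => rfl
  haveI : IsScalarTower R₀ R₁ A := IsScalarTower.of_algebraMap_eq fun r => by
    show algebraMap R₀ A r = algebraMap R A (algebraMap R₁ R (algebraMap R₀ R₁ r))
    rw [← IsScalarTower.algebraMap_apply R₀ R₁ R, ← IsScalarTower.algebraMap_apply R₀ R A]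
  let A₁ := R₁ ⊗[R₀] A₀
  let j : A₁ →ₐ[R₁] A := Algebra.TensorProduct.lift (Algebra.ofId R₁ A) j₀ fun _ _ => Commute.all _ _
  have hj₀ : IsBaseChange R j₀.toLinearMap :=
    IsBaseChange.of_equiv e.symm.toLinearEquiv fun x => rfl
  have hj1 : ∀ x, j ((1 : R₁) ⊗ₜ x) = j₀ x := fun x =>
    (Algebra.TensorProduct.lift_tmul _ _ _ _ _).trans (by rw [map_one, one_mul])
  have hj : IsBaseChange R j.toLinearMap := by
    refine IsBaseChange.of_comp (TensorProduct.isBaseChange R₀ A₀ R₁) ?_
    exact IsBaseChange.of_equiv e.symm.toLinearEquiv fun x => (hj1 x).symm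
  let s₁ : Finset A₁ := s₀.image fun a => (1 : R₁) ⊗ₜ[R₀] a
  have hmem : ∀ x ∈ ((s₀.biUnion T ∪ s₀.image fun a => Coalgebra.counit (R := R) (j₀ a) : Finset R) : Set R),
      x ∈ R₁ := fun x hx => (le_sup_right : _ ≤ R₁) (Algebra.subset_adjoin hx)
  refine exists_finComod_of_model (R₁ := R₁) Subtype.val_injective j hj s₁ ?_ ?_ ?_
  · have : Algebra.adjoin R₁ ((fun a => (1 : R₁) ⊗ₜ[R₀] a) '' (s₀ : Set A₀)) = ⊤ :=
      Algebra.TensorProduct.adjoin_one_tmul_image_eq_top _ hs₀
    simpa [s₁] using this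
  · intro x hx
    obtain ⟨a, ha, rfl⟩ := Finset.mem_image.1 hx
    rw [hj1]
    have h := hT a R₁.toSubring fun c hc =>
      hmem c (Finset.mem_coe.2 (Finset.mem_union_left _ (Finset.mem_biUnion.2 ⟨a, ha, hc⟩)))
    refine AddSubgroup.closure_le (K := (j2 (R := R) j).range.toSubring.toAddSubgroup) |>.2 ?_ h
    rintro _ ⟨c, hc, p, q, rfl⟩
    refine ⟨(⟨c, hc⟩ : R₁) • (((1 : R₁) ⊗ₜ p) ⊗ₜ ((1 : R₁) ⊗ₜ q)), ?_⟩
    show j2 (R := R) j _ = _
    rw [map_smul, j2_tmul, hj1, hj1]
    rfl
  · intro x hx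
    obtain ⟨a, ha, rfl⟩ := Finset.mem_image.1 hx
    rw [hj1]
    exact ⟨⟨_, hmem _ (Finset.mem_coe.2 (Finset.mem_union_right _ (Finset.mem_image_of_mem _ ha)))⟩, rfl⟩

end Groth.Misc15.HomMT
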