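import Groth.Agent.Misc15.SemilocInj.Chars
import Groth.Agent.Misc15.HomMT.Algebra

/-!
The functions on an affine group scheme over an affine base as a bialgebra.
-/

set_option autoImplicit false
set_option linter.style.haveILetI false
set_option synthInstance.maxHeartbeats 200000

universe u

open CategoryTheory CategoryTheory.Limits MonoidalCategory CartesianMonoidalCategory MonObj AlgebraicGeometry
open TensorProduct

noncomputable section

namespace Groth.Misc15.HomMT

open Groth.Misc15.SemilocInj Groth.Misc15.TorusDvr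

variable {R : Type u} [CommRing R] (G : Over (Spec (CommRingCat.of R))) [GrpObj G] [IsAffine G.left]

theorem pl_one' {C C' : Type u} [CommRing C] [Algebra R C] [CommRing C'] [Algebra R C'] (f : C →ₐ[R] C')
    (H : Over (Spec (CommRingCat.of R))) [GrpObj H] : pl f (1 : SemilocInj.Pt H C) = 1 :=
  MonObj.comp_one _

variable {G} in
theorem ptAlg_one {C : Type u} [CommRing C] [Algebra R C] :
    ptAlg (1 : SemilocInj.Pt G C) = (Algebra.ofId R C).comp (ptAlg (1 : SemilocInj.Pt G R)) := by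
  rw [← ptAlg_pl, pl_one']

theorem coassoc_aux :
    (Algebra.TensorProduct.assoc R R R (Ob G) (Ob G) (Ob G)).toAlgHom.comp
      ((Algebra.TensorProduct.map (comulOb G) (AlgHom.id R (Ob G))).comp (comulOb G)) =
      (Algebra.TensorProduct.map (AlgHom.id R (Ob G)) (comulOb G)).comp (comulOb G) := by
  let iL : Ob G →ₐ[R] Ob G ⊗[R] Ob G := Algebra.TensorProduct.includeLeft
  let iR : Ob G →ₐ[R] Ob G ⊗[R] Ob G := Algebra.TensorProduct.includeRight
  let h₁ : Ob G ⊗[R] Ob G →ₐ[R] Ob G ⊗[R] (Ob G ⊗[R] Ob G) :=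
    (Algebra.TensorProduct.assoc R R R (Ob G) (Ob G) (Ob G)).toAlgHom.comp
      (Algebra.TensorProduct.map (comulOb G) (AlgHom.id R (Ob G)))
  let h₂ := Algebra.TensorProduct.map (AlgHom.id R (Ob G)) (comulOb G)
  let h₀ : Ob G ⊗[R] Ob G →ₐ[R] Ob G ⊗[R] (Ob G ⊗[R] Ob G) :=
    Algebra.TensorProduct.map (AlgHom.id R (Ob G)) iL
  let x := pl (Algebra.TensorProduct.includeLeft : Ob G →ₐ[R] Ob G ⊗[R] (Ob G ⊗[R] Ob G)) (univ G)
  let m : Ob G ⊗[R] Ob G →ₐ[R] Ob G ⊗[R] (Ob G ⊗[R] Ob G) := Algebra.TensorProduct.includeRight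
  let y := pl (m.comp iL) (univ G)
  let z := pl (m.comp iR) (univ G)
  have hc : pl (comulOb G) (univ G) = pl iL (univ G) * pl iR (univ G) := pl_ptAlg _
  have e1 : pl h₁ (pl iL (univ G)) = x * y := by
    have : h₁.comp iL = h₀.comp (comulOb G) := by
      refine AlgHom.ext fun a => ?_
      show (Algebra.TensorProduct.assoc R R R (Ob G) (Ob G) (Ob G)) (comulOb G a ⊗ₜ 1) = h₀ (comulOb G a)
      generalize comulOb G a = w
      induction w using TensorProduct.induction_on with
      | zero => simp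
      | tmul p q => simp [h₀, iL]
      | add p q hp hq => simp only [TensorProduct.add_tmul, map_add, hp, hq]
    rw [pl_pl, this, ← pl_pl, hc, pl_mul, pl_pl, pl_pl]
    congr 2
  have e2 : pl h₁ (pl iR (univ G)) = z := by
    rw [pl_pl]
    congr 1
    exact AlgHom.ext fun a => by simp [h₁, iR, m, Algebra.TensorProduct.one_def]
  have e3 : pl h₂ (pl iL (univ G)) = x := by
    rw [pl_pl]
    congr 1
    exact AlgHom.ext fun a => by simp [h₂, iL, Algebra.TensorProduct.one_def]
  have e4 : pl h₂ (pl iR (univ G)) = y * z := by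
    have : h₂.comp iR = m.comp (comulOb G) := AlgHom.ext fun a => by simp [h₂, iR, m]
    rw [pl_pl, this, ← pl_pl, hc, pl_mul, pl_pl, pl_pl]
  calc ((Algebra.TensorProduct.assoc R R R (Ob G) (Ob G) (Ob G)).toAlgHom.comp ((Algebra.TensorProduct.map (comulOb G) (AlgHom.id R (Ob G))).comp (comulOb G)))
      = ptAlg (pl h₁ (pl (comulOb G) (univ G))) := by
        rw [pl_pl, ptAlg_pl_univ, ← AlgHom.comp_assoc]
    _ = ptAlg (pl h₂ (pl (comulOb G) (univ G))) := by
        rw [hc, pl_mul, e1, e2, pl_mul, e3, e4, _root_.mul_assoc]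
    _ = _ := by rw [pl_pl, ptAlg_pl_univ]

theorem rTensor_aux :
    (Algebra.TensorProduct.map (ptAlg (1 : SemilocInj.Pt G R)) (AlgHom.id R (Ob G))).comp (comulOb G) =
      (Algebra.TensorProduct.lid R (Ob G)).symm.toAlgHom := by
  let i : Ob G →ₐ[R] R ⊗[R] Ob G := Algebra.TensorProduct.includeRight
  have h := ptAlg_mul (R := R ⊗[R] Ob G) (1 : SemilocInj.Pt G _) (pl i (univ G))
  rw [_root_.one_mul, ptAlg_pl_univ] at h
  refine Eq.trans ?_ (h.symm.trans (AlgHom.ext fun a => by simp [i]))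
  congr 1
  refine Algebra.TensorProduct.ext (AlgHom.ext fun a => ?_) (AlgHom.ext fun a => ?_)
  · have h1 := AlgHom.congr_fun (ptAlg_one (G := G) (C := R ⊗[R] Ob G)) a
    simp [h1, Algebra.ofId_apply]
  · simp [i]

theorem lTensor_aux :
    (Algebra.TensorProduct.map (AlgHom.id R (Ob G)) (ptAlg (1 : SemilocInj.Pt G R))).comp (comulOb G) =
      (Algebra.TensorProduct.rid R R (Ob G)).symm.toAlgHom := by
  let i : Ob G →ₐ[R] Ob G ⊗[R] R := Algebra.TensorProduct.includeLeft
  have h := ptAlg_mul (R := Ob G ⊗[R] R) (pl i (univ G)) (1 : SemilocInj.Pt G _)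
  rw [_root_.mul_one, ptAlg_pl_univ] at h
  refine Eq.trans ?_ (h.symm.trans (AlgHom.ext fun a => by simp [i]))
  congr 1
  refine Algebra.TensorProduct.ext (AlgHom.ext fun a => ?_) (AlgHom.ext fun a => ?_)
  · simp [i]
  · have h1 := AlgHom.congr_fun (ptAlg_one (G := G) (C := Ob G ⊗[R] R)) a
    simp [h1, Algebra.ofId_apply, Algebra.algebraMap_eq_smul_one, TensorProduct.tmul_smul,
      Algebra.TensorProduct.one_def]
    rw [← TensorProduct.tmul_smul, smul_eq_mul, _root_.mul_one]

/-- The bialgebra of an affine group. -/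
instance instBialgebraOb : Bialgebra R (Ob G) :=
  Bialgebra.ofAlgHom (comulOb G) (ptAlg (1 : SemilocInj.Pt G R)) (coassoc_aux G) (rTensor_aux G) (lTensor_aux G)

variable {G}

theorem conv_ptAlg {C : Type u} [CommRing C] [Algebra R C] (x y : SemilocInj.Pt G C) :
    conv (ptAlg x) (ptAlg y) = ptAlg (x * y) := (ptAlg_mul x y).symm

theorem counit_ptAlg {C : Type u} [CommRing C] [Algebra R C] :
    (Algebra.ofId R C).comp (Bialgebra.counitAlgHom R (Ob G)) = ptAlg (1 : SemilocInj.Pt G C) := ptAlg_one.symm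

end Groth.Misc15.HomMT
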