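import Mathlib
import Groth.Agent.Misc15.HomMT.Algebra

/-!
An invariant of a family of homomorphisms which does not see automorphisms of the character group.
-/

set_option autoImplicit false
set_option linter.style.haveILetI false
set_option linter.unusedSectionVars false

universe u v

open TensorProduct

noncomputable section

namespace Groth.Misc15.HomMT

variable {R : Type u} [CommRing R] {A : Type u} [CommRing A] [Bialgebra R A]
  {G : Type v} [CommGroup G] {B C : Type u} [CommRing B] [Algebra R B] [CommRing C] [Algebra R C]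

open Polynomial in
/-- The product of the linear forms of the coefficients at an element. -/
def qpol (Φ : A →ₐ[R] MonoidAlgebra B G) (a : A) : Polynomial B :=
  ∏ g ∈ (Φ a).coeff.support, (1 + Polynomial.C (cf Φ g a) * Polynomial.X)

theorem qpol_eq_prod (Φ : A →ₐ[R] MonoidAlgebra B G) (a : A) (s : Finset G) (h : ∀ g ∉ s, cf Φ g a = 0) :
    qpol Φ a = ∏ g ∈ s, (1 + Polynomial.C (cf Φ g a) * Polynomial.X) := by
  refine Finset.prod_subset (fun g hg => ?_) fun g _ hg => ?_
  · by_contra hgs
    exact Finsupp.mem_support_iff.1 hg (h g hgs)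
  · rw [cf_apply, Finsupp.notMem_support_iff.1 hg, map_zero, zero_mul, add_zero]

theorem qpol_map (Φ : A →ₐ[R] MonoidAlgebra B G) (a : A) (f : B →ₐ[R] C) :
    qpol ((MonoidAlgebra.mapAlgHom G f).comp Φ) a = (qpol Φ a).map f.toRingHom := by
  rw [qpol_eq_prod _ a (Φ a).coeff.support fun g hg => by
      rw [cf_map, cf_apply, Finsupp.notMem_support_iff.1 hg, map_zero],
    qpol, Polynomial.map_prod]
  exact Finset.prod_congr rfl fun g _ => by simp

section Inv

variable {n : ℕ} (x : Fin n → A)

/-- The invariant. -/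
def cmap (Φ : A →ₐ[R] MonoidAlgebra B G) : MvPolynomial (Fin n × ℕ) R →ₐ[R] B :=
  MvPolynomial.aeval fun p => (qpol Φ (x p.1)).coeff p.2

theorem cmap_map (Φ : A →ₐ[R] MonoidAlgebra B G) (f : B →ₐ[R] C) :
    f.comp (cmap x Φ) = cmap x ((MonoidAlgebra.mapAlgHom G f).comp Φ) :=
  MvPolynomial.algHom_ext fun p => by
    simp [cmap, qpol_map]

theorem isIntegral_cf (Φ : A →ₐ[R] MonoidAlgebra B G) (i : Fin n) (g : G) :
    (cmap x Φ).toRingHom.IsIntegralElem (cf Φ g (x i)) := by
  classical
  set s := insert g (Φ (x i)).coeff.support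
  set N := s.card
  letI := (cmap x Φ).toRingHom.toAlgebra
  let q : Polynomial (MvPolynomial (Fin n × ℕ) R) :=
    Polynomial.X ^ N + ∑ k ∈ Finset.range N,
      Polynomial.C ((-1) ^ (N - k) * MvPolynomial.X (i, N - k)) * Polynomial.X ^ k
  have hq : qpol Φ (x i) = ∏ h ∈ s, (1 + Polynomial.C (cf Φ h (x i)) * Polynomial.X) :=
    qpol_eq_prod Φ (x i) s fun h hh => by
      rw [cf_apply]
      exact Finsupp.notMem_support_iff.1 fun h' => hh (Finset.mem_insert_of_mem h')
  refine ⟨q, Polynomial.monic_X_pow_add ?_, ?_⟩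
  · refine lt_of_le_of_lt (Polynomial.degree_sum_le _ _) ((Finset.sup_lt_iff (WithBot.bot_lt_coe N)).2 fun k hk => ?_)
    exact lt_of_le_of_lt (Polynomial.degree_C_mul_X_pow_le _ _) (WithBot.coe_lt_coe.2 (Finset.mem_range.1 hk))
  -- the product of `(cf g - cf h)` vanishes
  have hv : ∏ h ∈ s, (cf Φ g (x i) + -(cf Φ h (x i))) = 0 :=
    Finset.prod_eq_zero (Finset.mem_insert_self g _) (add_neg_cancel _)
  rw [← hv, Finset.prod_add, ← Finset.sum_fiberwise_of_maps_to (g := fun t : Finset G => t.card)
    (t := Finset.range (N + 1)) fun t ht => Finset.mem_range.2 (Nat.lt_succ_of_le (Finset.card_le_card (Finset.mem_powerset.1 ht))),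
    Finset.sum_range_succ]
  simp only [q, Polynomial.eval₂_add, Polynomial.eval₂_X_pow, Polynomial.eval₂_finsetSum, Polynomial.eval₂_mul,
    Polynomial.eval₂_C]
  rw [add_comm]
  congr 1
  · refine Finset.sum_congr rfl fun k hk => ?_
    have hkN : k ≤ N := (Finset.mem_range.1 hk).le
    have hc : (cmap x Φ).toRingHom (MvPolynomial.X (i, N - k)) =
        ∑ t ∈ s.powersetCard (N - k), ∏ h ∈ t, cf Φ h (x i) := by
      show cmap x Φ (MvPolynomial.X (i, N - k)) = _
      rw [cmap, MvPolynomial.aeval_X, hq, Finset.prod_one_add, Polynomial.finsetSum_coeff]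
      simp only [Finset.prod_mul_distrib, Finset.prod_const, ← map_prod, Polynomial.coeff_C_mul_X_pow]
      rw [← Finset.sum_filter]
      refine Finset.sum_congr ?_ fun _ _ => rfl
      ext t
      simp [Finset.mem_powersetCard, eq_comm]
    simp only [map_mul, map_pow, map_neg, map_one, hc]
    rw [Finset.mul_sum, Finset.sum_mul]
    refine Finset.sum_nbij' (fun t => s \ t) (fun t => s \ t) ?_ ?_ ?_ ?_ ?_
    · intro t ht
      simp only [Finset.mem_coe, Finset.mem_powersetCard, Finset.mem_filter, Finset.mem_powerset] at ht ⊢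
      exact ⟨Finset.sdiff_subset, by rw [Finset.card_sdiff_of_subset ht.1, ht.2]; exact Nat.sub_sub_self hkN⟩
    · intro t ht
      simp only [Finset.mem_coe, Finset.mem_powersetCard, Finset.mem_filter, Finset.mem_powerset] at ht ⊢
      exact ⟨Finset.sdiff_subset, by rw [Finset.card_sdiff_of_subset ht.1, ht.2]⟩
    · intro t ht
      simp only [Finset.mem_coe, Finset.mem_powersetCard] at ht
      exact sdiff_sdiff_eq_self ht.1
    · intro t ht
      simp only [Finset.mem_coe, Finset.mem_filter, Finset.mem_powerset] at ht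
      exact sdiff_sdiff_eq_self ht.1
    · intro t ht
      simp only [Finset.mem_powersetCard] at ht
      rw [Finset.prod_const, Finset.card_sdiff_of_subset ht.1, ht.2, sdiff_sdiff_eq_self ht.1, Finset.prod_neg, ht.2,
        show s.card - (N - k) = k from Nat.sub_sub_self hkN]
      ring
  · rw [Finset.sum_eq_single_of_mem s (by simp [N]) fun t ht hts => ?_]
    · simp [N]
    · simp only [Finset.mem_filter, Finset.mem_powerset] at ht
      exact absurd (Finset.eq_of_subset_of_card_le ht.1 ht.2.symm.le) hts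

end Inv

/-- A character-valued map is group-like. -/
structure IsGL (Θ : G →* MonoidAlgebra B G) : Prop where
  mul : ∀ g, MonoidAlgebra.mapDomainAlgHom R B ((MonoidHom.id G).prod (MonoidHom.id G)) (Θ g) =
    MonoidAlgebra.mapDomainAlgHom R B (MonoidHom.inl G G) (Θ g) *
      MonoidAlgebra.mapDomainAlgHom R B (MonoidHom.inr G G) (Θ g)
  one : ∀ g, ev (AlgHom.id R B) 1 (Θ g) = 1

/-- The endomorphism of a character-valued map. -/
abbrev tw (Θ : G →* MonoidAlgebra B G) : MonoidAlgebra B G →ₐ[R] MonoidAlgebra B G :=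
  ev MonoidAlgebra.singleOneAlgHom Θ

theorem exists_single_of_local [IsLocalRing B] {Θ : G →* MonoidAlgebra B G} (hΘ : IsGL (R := R) Θ) (g : G) :
    ∃ h, Θ g = MonoidAlgebra.single h 1 := by
  classical
  have hmul : ∀ a b, (Θ g).coeff a * (Θ g).coeff b = if a = b then (Θ g).coeff a else 0 := fun a b => by
    rw [← coeff_inl_mul_inr (R := R), ← hΘ.mul g]
    generalize Θ g = y
    induction y using MonoidAlgebra.induction_linear with
    | zero => simp
    | add p q hp hq =>
      simp only [map_add, MonoidAlgebra.coeff_add, Finsupp.add_apply, hp, hq]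
      split_ifs <;> simp
    | single c r =>
      simp only [MonoidAlgebra.mapDomainAlgHom_apply, MonoidAlgebra.mapDomain_single, MonoidAlgebra.coeff_single,
        Finsupp.single_apply, MonoidHom.prod_apply, MonoidHom.id_apply, Prod.mk.injEq]
      split_ifs <;> first | rfl | (obtain ⟨rfl, rfl⟩ := ‹_ ∧ _›; simp_all) | simp_all
  have hone : (Θ g).coeff.sum (fun _ b => b) = 1 := by
    rw [← ev_one_apply (R := R), hΘ.one]
  have h01 : ∀ a, (Θ g).coeff a = 0 ∨ (Θ g).coeff a = 1 := fun a => by
    set e := (Θ g).coeff a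
    have he : e * e = e := by rw [hmul, if_pos rfl]
    rcases IsLocalRing.isUnit_or_isUnit_one_sub_self e with hu | hu
    · exact Or.inr (hu.mul_left_cancel (he.trans (mul_one e).symm))
    · refine Or.inl (hu.mul_left_cancel ?_)
      rw [sub_mul, one_mul, he, sub_self, mul_zero]
  obtain ⟨h, hh⟩ : ∃ h, (Θ g).coeff h = 1 := by
    by_contra hne
    push Not at hne
    have : (Θ g).coeff = 0 := Finsupp.ext fun a => (h01 a).resolve_right (hne a)
    rw [this, Finsupp.sum_zero_index] at hone
    exact zero_ne_one hone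
  refine ⟨h, MonoidAlgebra.ext (Finsupp.ext fun a => ?_)⟩
  rw [MonoidAlgebra.coeff_single, Finsupp.single_apply]
  split_ifs with ha
  · rw [← ha, hh]
  · have := hmul h a
    rwa [hh, one_mul, if_neg ha] at this

theorem IsGL.map {Θ : G →* MonoidAlgebra B G} (hΘ : IsGL (R := R) Θ) (f : B →ₐ[R] C) :
    IsGL (R := R) ((MonoidAlgebra.mapAlgHom G f : MonoidAlgebra B G →* MonoidAlgebra C G).comp Θ) := by
  have nat : ∀ {G' : Type v} [CommGroup G'] (k : G →* G') (z : MonoidAlgebra B G),
      MonoidAlgebra.mapDomainAlgHom R C k (MonoidAlgebra.mapAlgHom G f z) =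
        MonoidAlgebra.mapAlgHom G' f (MonoidAlgebra.mapDomainAlgHom R B k z) := fun k z => by
    induction z using MonoidAlgebra.induction_linear with
    | zero => simp
    | add p q hp hq => simp only [map_add, hp, hq]
    | single a b => simp
  refine ⟨fun g => ?_, fun g => ?_⟩
  · simp only [MonoidHom.comp_apply, MonoidHom.coe_coe, nat, ← map_mul, hΘ.mul]
  · simp only [MonoidHom.comp_apply, MonoidHom.coe_coe]
    rw [← AlgHom.comp_apply, ev_comp_mapAlgHom, AlgHom.id_comp, ← AlgHom.comp_id f, ← MonoidHom.comp_one (f : B →* C),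
      ← comp_ev, AlgHom.comp_apply, hΘ.one, map_one]

theorem mapAlgHom_comp_tw (f : B →ₐ[R] C) (Θ : G →* MonoidAlgebra B G) :
    (MonoidAlgebra.mapAlgHom G f).comp (tw Θ) =
      (tw ((MonoidAlgebra.mapAlgHom G f : MonoidAlgebra B G →* MonoidAlgebra C G).comp Θ)).comp
        (MonoidAlgebra.mapAlgHom G f) := by
  rw [tw, tw, comp_ev, ev_comp_mapAlgHom]
  congr 1
  exact AlgHom.ext fun b => by simp

/-- The invariant does not see automorphisms of the diagonalisable group. -/
theorem cmap_tw {n : ℕ} (x : Fin n → A) (Φ : A →ₐ[R] MonoidAlgebra B G) {Θ Θ' : G →* MonoidAlgebra B G}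
    (hΘ : IsGL (R := R) Θ) (hinv : (tw (R := R) Θ').comp (tw Θ) = AlgHom.id R _) :
    cmap x ((tw Θ).comp Φ) = cmap x Φ := by
  classical
  refine MvPolynomial.algHom_ext fun p => ?_
  apply Module.eq_of_localization_maximal (fun m _ => Localization.AtPrime m)
    (fun m _ => Algebra.linearMap B (Localization.AtPrime m))
  intro m hm
  let f : B →ₐ[R] Localization.AtPrime m := IsScalarTower.toAlgHom R B _
  show f (cmap x ((tw Θ).comp Φ) (MvPolynomial.X p)) = f (cmap x Φ (MvPolynomial.X p))
  rw [← AlgHom.comp_apply, ← AlgHom.comp_apply, cmap_map, cmap_map, ← AlgHom.comp_assoc, mapAlgHom_comp_tw,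
    AlgHom.comp_assoc]
  set Φ₁ := (MonoidAlgebra.mapAlgHom G f).comp Φ
  set Θ₁ := ((MonoidAlgebra.mapAlgHom G f : MonoidAlgebra B G →* MonoidAlgebra (Localization.AtPrime m) G).comp Θ)
  set Θ₁' := ((MonoidAlgebra.mapAlgHom G f : MonoidAlgebra B G →* MonoidAlgebra (Localization.AtPrime m) G).comp Θ')
  choose σ hσ using exists_single_of_local (hΘ.map f)
  have hσinj : Function.Injective σ := by
    intro a b hab
    have h2 : ∀ g, (tw (R := R) Θ₁') (Θ₁ g) = MonoidAlgebra.single g 1 := fun g => by
      have h1 := AlgHom.congr_fun hinv (MonoidAlgebra.single g 1)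
      simp only [AlgHom.comp_apply, ev_single, map_one, one_mul, AlgHom.id_apply] at h1
      have := congrArg (MonoidAlgebra.mapAlgHom G f) h1
      rw [← AlgHom.comp_apply, mapAlgHom_comp_tw, AlgHom.comp_apply, MonoidAlgebra.mapAlgHom_single, map_one] at this
      exact this
    have h3 := h2 a
    rw [show Θ₁ a = Θ₁ b from (hσ a).trans (hab ▸ (hσ b).symm), h2 b] at h3
    exact ((MonoidAlgebra.of_injective (R := Localization.AtPrime m)) h3).symm
  have hcoeff : ∀ (z : MonoidAlgebra (Localization.AtPrime m) G),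
      (tw (R := R) Θ₁ z).coeff = Finsupp.mapDomain σ z.coeff := fun z => by
    induction z using MonoidAlgebra.induction_linear with
    | zero => simp
    | add a b ha hb => simp only [map_add, MonoidAlgebra.coeff_add, ha, hb, Finsupp.mapDomain_add]
    | single g c =>
      rw [ev_single, show Θ₁ g = _ from hσ g, MonoidAlgebra.singleOneAlgHom_apply, MonoidAlgebra.single_mul_single,
        one_mul, mul_one, MonoidAlgebra.coeff_single, MonoidAlgebra.coeff_single, Finsupp.mapDomain_single]
  show MvPolynomial.aeval _ (MvPolynomial.X p) = MvPolynomial.aeval _ (MvPolynomial.X p)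
  rw [MvPolynomial.aeval_X, MvPolynomial.aeval_X]
  congr 1
  rw [qpol_eq_prod _ _ ((Φ₁ (x p.1)).coeff.support.image σ) fun h hh => ?_, Finset.prod_image (fun a _ b _ => @hσinj a b),
    qpol]
  · refine Finset.prod_congr rfl fun g _ => ?_
    rw [cf_apply, AlgHom.comp_apply, hcoeff, Finsupp.mapDomain_apply hσinj, ← cf_apply]
  · rw [cf_apply, AlgHom.comp_apply, hcoeff]
    exact Finsupp.notMem_support_iff.1 fun h' => hh (Finsupp.mapDomain_support h')

end Groth.Misc15.HomMT
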