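import Groth.Agent.Misc15.HomMT.Generic

/-!
Change of base for local trivialisations and for schemes representing homomorphisms.
-/

set_option autoImplicit false
universe u

open CategoryTheory CategoryTheory.Limits MonoidalCategory CartesianMonoidalCategory MonObj AlgebraicGeometry
open Groth.Reductive Groth.Reductive.MTInt Groth.Reductive2.HomDesc

noncomputable section

namespace Groth.Misc15.HomMT

variable {S T : Scheme.{u}} (g : T ⟶ S) {H G : Over S} [GrpObj H] [GrpObj G]

/-- A trivialisation restricts to the base change. -/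
def trivBc {Y : Over T} (τ : Triv H ((Over.map g).obj Y)) : Triv (Red.bc g H) Y where
  M := τ.M
  val {Z} z := (bcPointEquiv g H Z).trans (τ.val ((Over.map g).map z))
  nat {Z W} w z h := by
    simp only [MulEquiv.trans_apply, bcPointEquiv_comp, Functor.map_comp]
    exact τ.nat _ _ _

theorem locTriv_bc (hH : LocTriv H) : LocTriv (Red.bc g H) := by
  refine ⟨MorphismProperty.pullback_snd (P := @IsAffineHom) _ _ hH.1, fun Y hY => ?_⟩
  obtain ⟨c, hc⟩ := hH.2 ((Over.map g).obj Y) hY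
  let Z : c.ι → Over T := fun i => Over.mk ((c.g i).left ≫ Y.hom)
  haveI : ∀ i, IsAffine (Z i).left := fun i => c.aff i
  refine ⟨@Cover.mk T Y c.ι c.fin Z (fun i => Over.homMk (c.g i).left rfl) inferInstance c.flat c.surj,
    fun i => ⟨trivBc g ((hc i).some.restrict (Over.homMk (𝟙 _) ?_))⟩⟩
  show 𝟙 _ ≫ (c.Z i).hom = ((c.g i).left ≫ Y.hom) ≫ g
  rw [Category.id_comp, ← Over.w (c.g i), Category.assoc]
  rfl

/-- The change of presentation of a product. -/
def θ (Z : Over T) : (Over.map g).obj (Red.bc g H ⊗ Z) ⟶ H ⊗ (Over.map g).obj Z :=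
  lift (bcPointEquiv g H _ (fst (Red.bc g H) Z)) ((Over.map g).map (snd (Red.bc g H) Z))

theorem map_lift_θ {Z W : Over T} (h : W ⟶ Red.bc g H) (y : W ⟶ Z) :
    (Over.map g).map (lift h y) ≫ θ g Z = lift (bcPointEquiv g H W h) ((Over.map g).map y) := by
  rw [θ, comp_lift, ← bcPointEquiv_comp, ← Functor.map_comp, lift_fst, lift_snd]

omit [GrpObj H] in
theorem exists_over_point {Z : Over T} {W : Over S} (t : W ⟶ (Over.map g).obj Z) :
    ∃ (n : Over T) (c : (Over.map g).obj n ≅ W) (y : n ⟶ Z), (Over.map g).map y = c.hom ≫ t := by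
  refine ⟨Over.mk (t.left ≫ Z.hom), Over.isoMk (Iso.refl _) ?_, Over.homMk t.left rfl,
    Over.OverMorphism.ext (Category.id_comp _).symm⟩
  show 𝟙 _ ≫ W.hom = (t.left ≫ Z.hom) ≫ g
  rw [Category.id_comp, ← Over.w t]
  simp

theorem isIso_θ (Z : Over T) : IsIso (θ (H := H) g Z) := by
  obtain ⟨n, c, y, hy⟩ := exists_over_point g (snd H ((Over.map g).obj Z))
  let h := (bcPointEquiv g H n).symm (c.hom ≫ fst H ((Over.map g).obj Z))
  have e1 : ((Over.map g).map (lift h y)) ≫ θ g Z = c.hom := by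
    rw [map_lift_θ, hy, MulEquiv.apply_symm_apply]
    ext1 <;> simp
  refine ⟨c.inv ≫ (Over.map g).map (lift h y), ?_, by rw [Category.assoc, e1, c.inv_hom_id]⟩
  have h1 : (θ g Z ≫ c.inv).left ≫ y.left = (snd (Red.bc g H) Z).left := by
    show (θ g Z ≫ c.inv).left ≫ ((Over.map g).map y).left = _
    rw [← Over.comp_left, hy, Category.assoc, c.inv_hom_id_assoc, θ, lift_snd]
    rfl
  let k : Red.bc g H ⊗ Z ⟶ n := Over.homMk ((θ g Z ≫ c.inv).left) (by
    show (θ g Z ≫ c.inv).left ≫ n.hom = _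
    rw [← Over.w y, ← Category.assoc]
    exact (congrArg (· ≫ Z.hom) h1).trans (Over.w (snd (Red.bc g H) Z)))
  have hk : (Over.map g).map k = θ g Z ≫ c.inv := Over.OverMorphism.ext rfl
  rw [← Category.assoc, ← hk, ← Functor.map_comp]
  have : k ≫ lift h y = 𝟙 _ := by
    ext1
    · rw [Category.assoc, lift_fst, Category.id_comp]
      apply (bcPointEquiv g H _).injective
      rw [bcPointEquiv_comp, MulEquiv.apply_symm_apply, hk, Category.assoc, c.inv_hom_id_assoc, θ, lift_fst]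
    · rw [Category.assoc, lift_snd, Category.id_comp]
      exact Over.OverMorphism.ext h1
  rw [this, CategoryTheory.Functor.map_id]

/-- The family over `T` of a family over `S`. -/
def toT {Z : Over T} (φ : H ⊗ (Over.map g).obj Z ⟶ G) : Red.bc g H ⊗ Z ⟶ Red.bc g G :=
  (bcPointEquiv g G _).symm (θ g Z ≫ φ)

/-- The family over `S` of a family over `T`. -/
def toS {Z : Over T} (ψ : Red.bc g H ⊗ Z ⟶ Red.bc g G) : H ⊗ (Over.map g).obj Z ⟶ G :=
  haveI := isIso_θ (H := H) g Z
  inv (θ g Z) ≫ bcPointEquiv g G _ ψ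

theorem toT_toS {Z : Over T} (ψ : Red.bc g H ⊗ Z ⟶ Red.bc g G) : toT g (toS g ψ) = ψ := by
  simp [toT, toS]

theorem toS_toT {Z : Over T} (φ : H ⊗ (Over.map g).obj Z ⟶ G) : toS g (toT g φ) = φ := by
  simp [toT, toS]

theorem point_toT {Z W : Over T} (h : W ⟶ Red.bc g H) (y : W ⟶ Z) (φ : H ⊗ (Over.map g).obj Z ⟶ G) :
    bcPointEquiv g G W (lift h y ≫ toT g φ) = lift (bcPointEquiv g H W h) ((Over.map g).map y) ≫ φ := by
  rw [bcPointEquiv_comp, toT, MulEquiv.apply_symm_apply, ← map_lift_θ, Category.assoc]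

theorem toT_comp {Z Z' : Over T} (v : Z' ⟶ Z) (φ : H ⊗ (Over.map g).obj Z ⟶ G) :
    toT g ((H ◁ (Over.map g).map v) ≫ φ) = (Red.bc g H ◁ v) ≫ toT g φ := by
  apply (bcPointEquiv g G _).injective
  have key : θ (H := H) g Z' ≫ (H ◁ (Over.map g).map v) =
      (Over.map g).map (Red.bc g H ◁ v) ≫ θ g Z := by
    ext1
    · simp only [θ, Category.assoc, lift_fst, whiskerLeft_fst, ← bcPointEquiv_comp]
    · simp only [θ, Category.assoc, lift_snd, whiskerLeft_snd, lift_snd_assoc, ← Functor.map_comp]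
  rw [bcPointEquiv_comp g G (Red.bc g H ◁ v), toT, toT, MulEquiv.apply_symm_apply, MulEquiv.apply_symm_apply,
    reassoc_of% key]

theorem isHomFamily_toT_iff {Z : Over T} (φ : H ⊗ (Over.map g).obj Z ⟶ G) :
    AutFam.IsHomFamily (Red.bc g H) (Red.bc g G) (toT g φ) ↔ AutFam.IsHomFamily H G φ := by
  constructor
  · intro hψ W g₁ g₂ t
    obtain ⟨n, c, y, hy⟩ := exists_over_point g t
    have key : ∀ x : W ⟶ H, c.hom ≫ lift x t ≫ φ =
        bcPointEquiv g G n (lift ((bcPointEquiv g H n).symm (c.hom ≫ x)) y ≫ toT g φ) := fun x => by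
      rw [point_toT, MulEquiv.apply_symm_apply, hy, comp_lift_assoc]
    rw [← cancel_epi c.hom, MonObj.comp_mul, key, key, key, ← map_mul, MonObj.comp_mul, map_mul, hψ]
  · intro hφ W h h' y
    apply (bcPointEquiv g G W).injective
    rw [map_mul, point_toT, point_toT, point_toT, map_mul]
    exact hφ _ _ _ _

/-- A representing scheme over the base change represents on schemes over `T`. -/
theorem exists_representsOn {A : Over T} {ω : Red.bc g H ⊗ A ⟶ Red.bc g G}
    (hA : AutFam.RepresentsHom (Red.bc g H) (Red.bc g G) A ω) :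
    ∃ υ : H ⊗ (Over.map g).obj A ⟶ G, RepresentsOn H G g A υ := by
  refine ⟨toS g ω, (isHomFamily_toT_iff g _).1 (by rw [toT_toS]; exact hA.1), fun Z φ hφ => ?_⟩
  obtain ⟨a, ha, hu⟩ := hA.2 Z (toT g φ) ((isHomFamily_toT_iff g φ).2 hφ)
  refine ⟨a, ?_, fun b hb => hu b ?_⟩
  · beta_reduce at ha ⊢
    rw [← toS_toT g ((H ◁ (Over.map g).map a) ≫ toS g ω), toT_comp, toT_toS, ha, toS_toT]
  · beta_reduce at hb ⊢
    rw [← hb, toT_comp, toT_toS]

end Groth.Misc15.HomMT
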