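import Groth.Agent.Misc15.HomMT.AffineBase
import Groth.Agent.Misc15.HomMT.Transport

/-!
Representability of the homomorphisms from a quasi-isotrivial group of multiplicative type to a smooth
affine group.
-/

set_option autoImplicit false
set_option linter.style.haveILetI false
set_option synthInstance.maxHeartbeats 200000
universe u

open CategoryTheory CategoryTheory.Limits MonoidalCategory CartesianMonoidalCategory MonObj AlgebraicGeometry
open Groth.Reductive.MTInt Groth.Reductive2.HomDesc Groth.Misc15.SemilocInj Groth.Misc15.TorusDvr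

noncomputable section

namespace Groth.Misc15.HomMT

/-- A descent datum along a morphism with a section is effective. -/
theorem eff_of_section {V X S : Scheme.{u}} {h : V ⟶ X} {p : X ⟶ S} (A : Groth.Pi1Desc.Act h p) (σ : S ⟶ X)
    (hσ : σ ≫ p = 𝟙 S) : A.Eff := by
  let i := pullback.fst h σ
  let π := pullback.snd h σ
  have hc : i ≫ h = π ≫ σ := pullback.condition
  have e₀ : (𝟙 V) ≫ h ≫ p = ((h ≫ p) ≫ σ) ≫ p := by simp [hσ]
  let q : V ⟶ pullback h σ := pullback.lift (A.act (𝟙 V) ((h ≫ p) ≫ σ) e₀) (h ≫ p) (A.act_hom _ _ _)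
  have hq : ∀ {T : Scheme.{u}} (v : T ⟶ V) (e : v ≫ h ≫ p = (v ≫ (h ≫ p) ≫ σ) ≫ p),
      v ≫ q ≫ i = A.act v (v ≫ (h ≫ p) ≫ σ) e := fun v e => by
    rw [show q ≫ i = A.act (𝟙 V) ((h ≫ p) ≫ σ) e₀ from pullback.lift_fst _ _ _, A.comp_act]
    exact A.congr (Category.comp_id v) rfl _ _
  have hqπ : q ≫ π = h ≫ p := pullback.lift_snd _ _ _
  have hv : ∀ {T : Scheme.{u}} (v : T ⟶ V), v ≫ h ≫ p = (v ≫ (h ≫ p) ≫ σ) ≫ p := fun v => by simp [hσ]
  refine ⟨pullback h σ, π, q, IsPullback.of_isLimit' ⟨hqπ⟩ ?_, fun T v x e => ?_⟩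
  · have hs : ∀ (s : PullbackCone π p), (s.fst ≫ i) ≫ h ≫ p = s.snd ≫ p := fun s => by
      rw [Category.assoc, reassoc_of% hc, hσ, Category.comp_id, s.condition]
    refine PullbackCone.IsLimit.mk _ (fun s => A.act (s.fst ≫ i) s.snd (hs s)) (fun s => ?_)
      (fun s => A.act_hom _ _ _) fun s m h₁ h₂ => ?_
    · refine pullback.hom_ext ?_ ?_
      · have hx : A.act (s.fst ≫ i) s.snd (hs s) ≫ (h ≫ p) ≫ σ = (s.fst ≫ i) ≫ h := by
          simp only [Category.assoc]
          rw [A.act_hom_assoc, hc, reassoc_of% s.condition.symm]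
        show (_ ≫ q) ≫ i = s.fst ≫ i
        rw [Category.assoc, hq _ (hv _)]
        refine (A.act_act _ _ _ _ ?_ _).trans (A.act_self _ _ _ hx.symm)
        rw [hx, Category.assoc (s.fst ≫ i)]
      · show (_ ≫ q) ≫ π = s.fst ≫ π
        rw [Category.assoc, hqπ, A.act_hom_assoc, s.condition]
    · have hm : m ≫ (h ≫ p) ≫ σ = m ≫ q ≫ i ≫ h := by
        simp only [Category.assoc, hc, reassoc_of% hqπ]
      rw [show m = A.act m (m ≫ h) (Category.assoc _ _ _).symm from (A.act_self _ _ _ rfl).symm]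
      refine Eq.trans (A.act_act m (m ≫ (h ≫ p) ≫ σ) (m ≫ h) (hv m) (Category.assoc _ _ _).symm ?_).symm
        (A.congr ?_ h₂ _ _)
      · rw [A.act_hom_assoc, ← hv m, Category.assoc]
      · rw [← hq m (hv m), ← Category.assoc]
        exact congrArg (· ≫ i) h₁
  · have hx : A.act v x e ≫ (h ≫ p) ≫ σ = v ≫ (h ≫ p) ≫ σ := by
      simp only [Category.assoc]
      rw [A.act_hom_assoc, ← reassoc_of% e]
    refine pullback.hom_ext ?_ ?_
    · show (_ ≫ q) ≫ i = (v ≫ q) ≫ i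
      rw [Category.assoc, Category.assoc, hq _ (hv _), hq _ (hv _)]
      refine (A.congr rfl hx _ ?_).trans (A.act_act v x _ e (hv v) _)
      rw [A.act_hom_assoc, ← e]; exact hv v
    · show (_ ≫ q) ≫ π = (v ≫ q) ≫ π
      rw [Category.assoc, Category.assoc, hqπ, A.act_hom_assoc, e]

variable {S : Scheme.{u}} {H G : Over S} [GrpObj H] [GrpObj G]

theorem exists_local_spec (hH : LocTriv H) (hG : Smooth G.hom) (hGa : IsAffineHom G.hom) {R : CommRingCat.{u}}
    (g : Spec R ⟶ S) {X T : Scheme.{u}} [IsAffine X] (k : X ⟶ Spec R) [Etale k] [Surjective k] (j : X ⟶ T)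
    {f : T ⟶ S} (hj : j ≫ f = k ≫ g) (τf : Triv H (Over.mk f)) :
    ∃ (A : Over (Spec R)) (υ : H ⊗ (Over.map g).obj A ⟶ G),
      RepresentsOn H G g A υ ∧ LocallyOfFinitePresentation A.hom := by
  obtain ⟨R⟩ := R
  let R' := Γ(X, ⊤)
  let c : CommRingCat.of R ⟶ R' := Spec.preimage (X.isoSpec.inv ≫ k)
  letI : Algebra R R' := c.hom.toAlgebra
  have hX : (X₀ (R := R) R').hom = X.isoSpec.inv ≫ k := Spec.map_preimage _
  haveI : Etale (X₀ (R := R) R').hom := hX ▸ inferInstance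
  haveI : Surjective (X₀ (R := R) R').hom := hX ▸ inferInstance
  let τ : Triv (Red.bc g H) (X₀ (R := R) R') := trivBc g (τf.restrict (Over.homMk (X.isoSpec.inv ≫ j) (by
    show _ = (X₀ (R := R) R').hom ≫ g
    rw [hX, Category.assoc, Category.assoc]
    exact congrArg (X.isoSpec.inv ≫ ·) hj)))
  haveI : IsAffineHom (Red.bc g G).hom := MorphismProperty.pullback_snd (P := @IsAffineHom) _ _ hGa
  haveI : IsAffine (Red.bc g G).left := isAffine_of_isAffineHom (Red.bc g G).hom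
  haveI : Smooth (Red.bc g G).hom := MorphismProperty.pullback_snd (P := @Smooth) _ _ hG
  haveI : Algebra.Smooth R (Ob (Red.bc g G)) := by
    have h : Smooth (Spec.map (CommRingCat.ofHom (algebraMap R (Ob (Red.bc g G))))) := by
      rw [← isoSpec_inv_hom]; infer_instance
    exact RingHom.smooth_algebraMap.1 ((HasRingHomProperty.Spec_iff (P := @Smooth)).1 h)
  haveI : Algebra.FinitePresentation R (Ob (Red.bc g G)) := Algebra.Smooth.finitePresentation
  obtain ⟨A, ω, hA, hfp⟩ := exists_representsHom_affine (G := Red.bc g G) τ (locTriv_bc g hH)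
  obtain ⟨υ, hυ⟩ := exists_representsOn g hA
  exact ⟨A, υ, hυ, hfp⟩

theorem exists_local (hH : LocTriv H) (hG : Smooth G.hom) (hGa : IsAffineHom G.hom) {T : Scheme.{u}} (f : T ⟶ S)
    [Etale f] (t : T) (τf : Triv H (Over.mk f)) :
    ∃ (R : CommRingCat.{u}) (g : Spec R ⟶ S) (A : Over (Spec R)) (υ : H ⊗ (Over.map g).obj A ⟶ G),
      IsOpenImmersion g ∧ f t ∈ Set.range g ∧ RepresentsOn H G g A υ ∧ LocallyOfFinitePresentation A.hom := by
  obtain ⟨O₀, hO₀, hs₀, -⟩ := exists_isAffineOpen_mem_and_subset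
    (U := (⊤ : S.Opens)) (show f t ∈ (⊤ : S.Opens) from trivial)
  obtain ⟨W, hW, htW, hWO⟩ := exists_isAffineOpen_mem_and_subset
    (U := f ⁻¹ᵁ O₀) (show t ∈ f ⁻¹ᵁ O₀ from hs₀)
  obtain ⟨r, hrW, hsr⟩ := hO₀.exists_basicOpen_le
    (V := ⟨f '' (W : Set T), f.isOpenMap _ W.isOpen⟩) ⟨f t, ⟨t, htW, rfl⟩⟩ hs₀
  let O := S.basicOpen r
  have hO : IsAffineOpen O := hO₀.basicOpen r
  let W' : T.Opens := W ⊓ f ⁻¹ᵁ O
  have hW' : IsAffineOpen W' := by
    have := hW.basicOpen ((f.appLE O₀ W hWO) r)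
    rwa [Scheme.basicOpen_appLE] at this
  haveI : IsAffine (W' : Scheme.{u}) := hW'
  let g : Spec Γ(S, O) ⟶ S := hO.fromSpec
  let k : (W' : Scheme.{u}) ⟶ Spec Γ(S, O) := IsOpenImmersion.lift g (W'.ι ≫ f) (by
    rw [show Set.range g = (O : Set S) from hO.range_fromSpec]
    rintro _ ⟨x, rfl⟩
    exact x.2.2)
  have hk : k ≫ g = W'.ι ≫ f := IsOpenImmersion.lift_fac _ _ _
  haveI : Etale (k ≫ g) := by rw [hk]; infer_instance
  haveI : Etale k := Etale.of_comp k g
  haveI : Surjective k := ⟨fun y => by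
    obtain ⟨x, hx, hxy⟩ := hrW (show g y ∈ O from hO.range_fromSpec.le ⟨y, rfl⟩)
    refine ⟨⟨x, hx, show f x ∈ O from hxy ▸ hO.range_fromSpec.le ⟨y, rfl⟩⟩, g.isOpenEmbedding.injective ?_⟩
    rw [← Scheme.Hom.comp_apply, hk]
    exact hxy⟩
  obtain ⟨A, υ, hυ, hfp⟩ := exists_local_spec hH hG hGa g k W'.ι hk.symm τf
  exact ⟨_, g, A, υ, inferInstance, hO.range_fromSpec.ge hsr, hυ, hfp⟩

/-- The homomorphisms from a quasi-isotrivial group of multiplicative type to a smooth affine group are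
parametrised by a smooth separated scheme. -/
theorem exists_representsHom_of_triv (hL : LocTriv H)
    (hH : ∀ s : S, ∃ (T : Scheme.{u}) (f : T ⟶ S) (t : T), Etale f ∧ f t = s ∧ Nonempty (Triv H (Over.mk f)))
    (hG : Smooth G.hom) (hGa : IsAffineHom G.hom) :
    ∃ (A : Over S) (υ : H ⊗ A ⟶ G), AutFam.RepresentsHom H G A υ ∧ Smooth A.hom ∧ IsSeparated A.hom := by
  choose T f t hf ht he using hH
  choose R g A υ hg hgs hA hfp using fun s =>
    @exists_local S H G _ _ hL hG hGa (T s) (f s) (hf s) (t s) (he s).some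
  obtain ⟨B, ω, hB, hpieces⟩ := exists_representsOn_sigma g A υ hA
  let p := Sigma.desc g
  haveI : Etale p := IsZariskiLocalAtSource.sigmaDesc fun i => inferInstance
  haveI : Surjective p := ⟨fun s => by
    obtain ⟨y, hy⟩ := hgs s
    refine ⟨Sigma.ι (fun i => Spec (R i)) s y, ?_⟩
    rw [← Scheme.Hom.comp_apply, Sigma.ι_desc]
    exact hy.trans (ht s)⟩
  haveI : LocallyOfFinitePresentation B.hom :=
    Groth.Reductive2.HomTwConst.prop_of_pieces @LocallyOfFinitePresentation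
      (fun i => ⟨_, (hpieces i).choose_spec.2⟩) hfp
  obtain ⟨U, υU, c, hU, -, hsq⟩ := exists_representsHom_of_cover p hB fun α => by
    refine Groth.Pi1Desc.Act.eff_of_cover fun v => ?_
    obtain ⟨y, hy⟩ := hgs (p (B.hom v))
    haveI := hg (p (B.hom v))
    let i := p (B.hom v)
    let O : S.Opens := (g i).opensRange
    refine ⟨_, ?_, α.stable_preimage O, α.effOn_preimage ?_⟩
    · show p (B.hom v) ∈ O
      exact ⟨y, hy.trans (ht _)⟩
    let σ₀ : (O : Scheme.{u}) ⟶ (p ⁻¹ᵁ O : Scheme.{u}) := IsOpenImmersion.lift (p ⁻¹ᵁ O).ι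
      (IsOpenImmersion.lift (g i) O.ι (by rw [Scheme.Opens.range_ι]; rfl) ≫ Sigma.ι (fun i => Spec (R i)) i) (by
        rintro _ ⟨x, rfl⟩
        refine (Scheme.Opens.range_ι _).ge ?_
        show p _ ∈ O
        rw [← Scheme.Hom.comp_apply, Category.assoc, Sigma.ι_desc, IsOpenImmersion.lift_fac]
        exact x.2)
    refine eff_of_section _ σ₀ ?_
    rw [← cancel_mono O.ι, Category.assoc, morphismRestrict_ι, IsOpenImmersion.lift_fac_assoc, Category.assoc,
      Sigma.ι_desc, IsOpenImmersion.lift_fac, Category.id_comp]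
  haveI : LocallyOfFinitePresentation U.hom :=
    MorphismProperty.of_isPullback_of_descendsAlong (P := @LocallyOfFinitePresentation)
      (Q := @Surjective ⊓ @Flat ⊓ @LocallyOfFinitePresentation) hsq.flip
      ⟨⟨inferInstance, inferInstance⟩, inferInstance⟩ inferInstance
  exact ⟨U, υU, hU, smooth_of_representsHom hL hG hU, isSeparated_of_representsHom hL hGa hU⟩

theorem exists_representsHom (hH : TwC.Locally S TwC.Topology.etale (fun S' g => ∃ (M : Type) (_ : AddCommGroup M),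
      Nonempty (Grp.mk (Red.bc g H) ≅ Grp.mk (Red.DS S' M))))
    (hG : Smooth G.hom) (hGa : IsAffineHom G.hom) :
    ∃ (A : Over S) (υ : H ⊗ A ⟶ G), AutFam.RepresentsHom H G A υ ∧ Smooth A.hom ∧ IsSeparated A.hom := by
  refine exists_representsHom_of_triv (locTriv_of_etale hH) (fun s => ?_) hG hGa
  obtain ⟨T, f, hf, ⟨t, ht⟩, M, _, ⟨e⟩⟩ := hH s
  exact ⟨T, f, t, hf, ht, ⟨trivOfIso e (Y := Over.mk f) (𝟙 T) (Category.id_comp f)⟩⟩

end Groth.Misc15.HomMT
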