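import Mathlib
import Groth.Agent.Misc15.HomMT.Algebra
import Groth.Agent.Misc15.HomMT.Descent

/-!
The weight decomposition of a finite semi-comodule attached to a family of homomorphisms, and the open
locus where the weights lie in a given set.
-/

set_option autoImplicit false
set_option linter.style.haveILetI false
set_option linter.unusedSectionVars false
set_option synthInstance.maxHeartbeats 200000

universe u v

open TensorProduct

noncomputable section

namespace Groth.Misc15.HomMT

variable {R : Type u} [CommRing R] {A : Type u} [CommRing A] [Bialgebra R A]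
  {G : Type v} [CommGroup G] {B C : Type u} [CommRing B] [Algebra R B] [CommRing C] [Algebra R C]
  (F : FinComod R A) {Φ : A →ₐ[R] MonoidAlgebra B G}

/-- The projector to a weight. -/
def proj (Φ : A →ₐ[R] MonoidAlgebra B G) (g : G) : B ⊗[R] F.V →ₗ[B] B ⊗[R] F.V :=
  LinearMap.liftBaseChange B
    ((TensorProduct.comm R F.V B).toLinearMap ∘ₗ (cf Φ g).lTensor F.V ∘ₗ F.ρ)

theorem proj_one_tmul (Φ : A →ₐ[R] MonoidAlgebra B G) (g : G) (v : F.V) :
    proj F Φ g (1 ⊗ₜ v) = TensorProduct.comm R F.V B ((cf Φ g).lTensor F.V (F.ρ v)) := by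
  simp [proj]

/-- The map of base changes of the module. -/
def baseMap (f : B →ₐ[R] C) : B ⊗[R] F.V →ₗ[R] C ⊗[R] F.V := f.toLinearMap.rTensor F.V

@[simp] theorem baseMap_tmul (f : B →ₐ[R] C) (b : B) (v : F.V) : baseMap F f (b ⊗ₜ v) = f b ⊗ₜ v := rfl

theorem baseMap_smul (f : B →ₐ[R] C) (b : B) (x : B ⊗[R] F.V) : baseMap F f (b • x) = f b • baseMap F f x := by
  induction x using TensorProduct.induction_on with
  | zero => simp
  | tmul c v => simp [TensorProduct.smul_tmul']
  | add p q hp hq => simp only [smul_add, map_add, hp, hq]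

theorem baseMap_proj (f : B →ₐ[R] C) (Φ : A →ₐ[R] MonoidAlgebra B G) (g : G) (x : B ⊗[R] F.V) :
    baseMap F f (proj F Φ g x) = proj F ((MonoidAlgebra.mapAlgHom G f).comp Φ) g (baseMap F f x) := by
  induction x using TensorProduct.induction_on with
  | zero => simp
  | tmul b v =>
    rw [show b ⊗ₜ[R] v = b • (1 : B) ⊗ₜ[R] v by simp [TensorProduct.smul_tmul'], map_smul, baseMap_smul,
      baseMap_smul, map_smul, baseMap_tmul, map_one, proj_one_tmul, proj_one_tmul]
    congr 1
    generalize F.ρ v = z
    induction z using TensorProduct.induction_on with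
    | zero => simp
    | tmul w a => simp
    | add p q hp hq => simp only [map_add, hp, hq]
  | add p q hp hq => simp only [map_add, hp, hq]

open scoped Classical in
theorem proj_proj (hΦ : IsFam Φ) (a b : G) (x : B ⊗[R] F.V) :
    proj F Φ a (proj F Φ b x) = if a = b then proj F Φ a x else 0 := by
  induction x using TensorProduct.induction_on with
  | zero => simp
  | tmul c v =>
    rw [show c ⊗ₜ[R] v = c • (1 : B) ⊗ₜ[R] v by simp [TensorProduct.smul_tmul'], map_smul, map_smul, map_smul]
    have e : proj F Φ a (proj F Φ b (1 ⊗ₜ v)) = TensorProduct.comm R F.V B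
        ((LinearMap.mul' R B ∘ₗ TensorProduct.map (cf Φ a) (cf Φ b)).lTensor F.V
          (TensorProduct.assoc R F.V A A (F.ρ.rTensor A (F.ρ v)))) := by
      rw [proj_one_tmul]
      generalize F.ρ v = z
      induction z using TensorProduct.induction_on with
      | zero => simp
      | tmul w y =>
        rw [LinearMap.lTensor_tmul, TensorProduct.comm_tmul,
          show cf Φ b y ⊗ₜ[R] w = cf Φ b y • (1 : B) ⊗ₜ[R] w by simp [TensorProduct.smul_tmul'],
          map_smul, proj_one_tmul, LinearMap.rTensor_tmul]
        generalize F.ρ w = z'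
        induction z' using TensorProduct.induction_on with
        | zero => simp
        | tmul w' y' => simp [TensorProduct.smul_tmul', mul_comm]
        | add p q hp hq => simp only [map_add, TensorProduct.add_tmul, smul_add, hp, hq]
      | add p q hp hq => simp only [map_add, hp, hq]
    rw [e, F.coassoc, ← LinearMap.lTensor_comp_apply]
    have e2 : (LinearMap.mul' R B ∘ₗ TensorProduct.map (cf Φ a) (cf Φ b)) ∘ₗ Coalgebra.comul (R := R) =
        if a = b then cf Φ a else 0 := by
      refine LinearMap.ext fun y => ?_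
      rw [LinearMap.comp_apply, LinearMap.comp_apply, hΦ.conv_cf]
      split_ifs <;> rfl
    rw [e2]
    split_ifs with hab
    · rw [proj_one_tmul]
    · simp
  | add p q hp hq =>
    rw [map_add, map_add, hp, hq]
    split_ifs <;> simp

/-- Evaluation at the unit. -/
def back : B ⊗[R] F.V →ₗ[B] B :=
  LinearMap.liftBaseChange B ((Algebra.linearMap R B) ∘ₗ Coalgebra.counit (R := R) (A := A) ∘ₗ F.toA)

theorem back_proj (Φ : A →ₐ[R] MonoidAlgebra B G) (g : G) (v : F.V) :
    back F (proj F Φ g (1 ⊗ₜ v)) = cf Φ g (F.toA v) := by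
  have h := congrArg (fun z => TensorProduct.lid R A ((Coalgebra.counit (R := R)).rTensor A z)) (F.compat v)
  simp only [Coalgebra.rTensor_counit_comul, TensorProduct.lid_tmul, one_smul] at h
  rw [← h, proj_one_tmul]
  generalize F.ρ v = z
  induction z using TensorProduct.induction_on with
  | zero => simp
  | tmul w y =>
    simp [back, Algebra.smul_def]
    rw [mul_comm, ← Algebra.smul_def, ← Algebra.smul_def, map_smul]
  | add p q hp hq => simp only [map_add, hp, hq]

theorem exists_finset_proj (Φ : A →ₐ[R] MonoidAlgebra B G) :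
    ∃ E : Finset G, ∀ g ∉ E, proj F Φ g = 0 := by
  classical
  obtain ⟨s, hs⟩ := (inferInstance : Module.Finite R F.V).fg_top
  have : ∀ z : F.V ⊗[R] A, ∃ E : Finset G, ∀ g ∉ E, (cf Φ g).lTensor F.V z = 0 := fun z => by
    induction z using TensorProduct.induction_on with
    | zero => exact ⟨∅, fun g _ => map_zero _⟩
    | tmul w y =>
      refine ⟨(Φ y).coeff.support, fun g hg => ?_⟩
      rw [LinearMap.lTensor_tmul, cf_apply, Finsupp.notMem_support_iff.1 hg, TensorProduct.tmul_zero]
    | add p q hp hq =>
      obtain ⟨E, hE⟩ := hp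
      obtain ⟨E', hE'⟩ := hq
      exact ⟨E ∪ E', fun g hg => by
        rw [map_add, hE g fun h => hg (Finset.mem_union_left _ h),
          hE' g fun h => hg (Finset.mem_union_right _ h), add_zero]⟩
  choose E hE using this
  refine ⟨s.biUnion fun v => E (F.ρ v), fun g hg => ?_⟩
  have h0 : (TensorProduct.comm R F.V B).toLinearMap ∘ₗ (cf Φ g).lTensor F.V ∘ₗ F.ρ = 0 :=
    LinearMap.ext_on hs fun v hv => by
      simp [hE (F.ρ v) g fun h => hg (Finset.mem_biUnion.2 ⟨v, hv, h⟩)]
  rw [proj, h0]
  ext
  simp

/-- The support of a weight. -/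
def supp (Φ : A →ₐ[R] MonoidAlgebra B G) (g : G) : Set (PrimeSpectrum B) :=
  Module.support B (LinearMap.range (proj F Φ g))

theorem isClosed_supp (Φ : A →ₐ[R] MonoidAlgebra B G) (g : G) : IsClosed (supp F Φ g) :=
  Module.isClosed_support

theorem supp_eq_empty_iff {Φ : A →ₐ[R] MonoidAlgebra B G} {g : G} : supp F Φ g = ∅ ↔ proj F Φ g = 0 := by
  rw [supp, Module.support_eq_empty_iff, Submodule.subsingleton_iff_eq_bot, LinearMap.range_eq_bot]

theorem supp_map (hΦ : IsFam Φ) (f : B →ₐ[R] C) (q : PrimeSpectrum C) (g : G) :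
    q ∈ supp F ((MonoidAlgebra.mapAlgHom G f).comp Φ) g ↔ PrimeSpectrum.comap f.toRingHom q ∈ supp F Φ g := by
  classical
  set p := PrimeSpectrum.comap f.toRingHom q
  constructor
  · -- the image is generated by images
    intro hq
    by_contra hp
    rw [supp, Module.notMem_support_iff'] at hp
    refine Module.notMem_support_iff'.2 ?_ hq
    rintro ⟨_, x, rfl⟩
    induction x using TensorProduct.induction_on with
    | zero => exact ⟨1, fun h => q.isPrime.ne_top ((Ideal.eq_top_iff_one _).2 h), Subtype.ext (by simp)⟩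
    | tmul c v =>
      obtain ⟨r, hr, hr'⟩ := hp ⟨_, (1 : B) ⊗ₜ[R] v, rfl⟩
      refine ⟨f r, hr, Subtype.ext ?_⟩
      have h0 := congrArg (fun z => baseMap F f z.1) hr'
      simp only [SetLike.val_smul, baseMap_smul, baseMap_proj, baseMap_tmul, map_one, Submodule.coe_zero,
        map_zero] at h0
      simp only [SetLike.val_smul, Submodule.coe_zero]
      rw [show c ⊗ₜ[R] v = c • (1 : C) ⊗ₜ[R] v by simp [TensorProduct.smul_tmul'], map_smul, smul_comm, h0,
        smul_zero]
    | add x y hx hy =>
      obtain ⟨r, hr, hr'⟩ := hx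
      obtain ⟨s, hs, hs'⟩ := hy
      refine ⟨r * s, q.asIdeal.primeCompl.mul_mem hr hs, Subtype.ext ?_⟩
      have h1 := congrArg Subtype.val hr'
      have h2 := congrArg Subtype.val hs'
      simp only [SetLike.val_smul, Submodule.coe_zero] at h1 h2 ⊢
      rw [map_add, smul_add, mul_smul, mul_smul, h2, smul_zero, smul_comm, h1, smul_zero, add_zero]
  · -- through residue fields
    intro hp
    by_contra hq
    let k := p.asIdeal.ResidueField
    let K := q.asIdeal.ResidueField
    let fk : B →ₐ[R] k := IsScalarTower.toAlgHom R B k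
    let fK : C →ₐ[R] K := IsScalarTower.toAlgHom R C K
    have hm : p.asIdeal = q.asIdeal.comap f.toRingHom := rfl
    let e : k →+* K := Ideal.ResidueField.map p.asIdeal q.asIdeal f.toRingHom hm
    have he : ∀ b : B, e (algebraMap B k b) = algebraMap C K (f b) := fun b =>
      Ideal.ResidueField.map_algebraMap _ _ _ hm b
    let e' : k →ₐ[R] K :=
      { e with
        commutes' := fun r => by
          show e (algebraMap R k r) = _
          rw [IsScalarTower.algebraMap_apply R B k, he, f.commutes, ← IsScalarTower.algebraMap_apply] }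
    have hee : e'.comp fk = fK.comp f := AlgHom.ext he
    -- vanishing over the residue field of `q`
    rw [supp, Module.notMem_support_iff'] at hq
    have hK : ∀ x, baseMap F fK (proj F ((MonoidAlgebra.mapAlgHom G f).comp Φ) g x) = 0 := fun x => by
      obtain ⟨r, hr, hr'⟩ := hq ⟨_, x, rfl⟩
      have h0 := congrArg (fun z => baseMap F fK z.1) hr'
      simp only [SetLike.val_smul, baseMap_smul, Submodule.coe_zero, map_zero, smul_eq_zero] at h0
      refine h0.resolve_left fun h => hr ?_
      exact Ideal.algebraMap_residueField_eq_zero.1 h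
    have hinj : Function.Injective (baseMap F e') := by
      letI : Algebra k K := e.toAlgebra
      haveI : IsScalarTower R k K := IsScalarTower.of_algebraMap_eq fun r => (e'.commutes r).symm
      have hcomm : ∀ z : k ⊗[R] F.V, baseMap F e' z =
          TensorProduct.AlgebraTensorModule.cancelBaseChange R k K K F.V
            ((1 : K) ⊗ₜ[k] z) := fun z => by
        induction z using TensorProduct.induction_on with
        | zero => simp
        | tmul c v => simp [Algebra.smul_def]; rfl
        | add x y hx hy => simp only [map_add, TensorProduct.tmul_add, hx, hy]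
      intro x y hxy
      rw [hcomm, hcomm] at hxy
      have h1 := (TensorProduct.AlgebraTensorModule.cancelBaseChange R k K K F.V).injective hxy
      have hr : Function.Injective ((Algebra.linearMap k K).rTensor (k ⊗[R] F.V)) :=
        Module.Flat.rTensor_preserves_injective_linearMap _ e.injective
      have h2 : (1 : k) ⊗ₜ[k] x = 1 ⊗ₜ y := hr (by simpa using h1)
      simpa using congrArg (TensorProduct.lid k (k ⊗[R] F.V)) h2
    have hk : ∀ x, baseMap F fk (proj F Φ g x) = 0 := fun x => hinj (by
      rw [map_zero]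
      have hc : ∀ z, baseMap F e' (baseMap F fk z) = baseMap F fK (baseMap F f z) := fun z => by
        induction z using TensorProduct.induction_on with
        | zero => simp
        | tmul c v => simp only [baseMap_tmul]; rw [← AlgHom.comp_apply, hee]; rfl
        | add a b ha hb => simp only [map_add, ha, hb]
      rw [hc, baseMap_proj, hK])
    rw [supp, Module.mem_support_iff_nontrivial_residueField_tensorProduct] at hp
    refine not_subsingleton_iff_nontrivial.2 hp (subsingleton_of_forall_eq 0 ?_)
    set P := LinearMap.range (proj F Φ g)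
    intro z
    let cb := TensorProduct.AlgebraTensorModule.cancelBaseChange R B k k F.V
    have hz : ∀ z : k ⊗[B] P, cb (P.subtype.baseChange k z) = 0 := fun z => by
      induction z using TensorProduct.induction_on with
      | zero => simp
      | tmul c y =>
        obtain ⟨_, x, rfl⟩ := y
        have e1 : ∀ w : B ⊗[R] F.V, cb (c ⊗ₜ[B] w) = c • baseMap F fk w := fun w => by
          induction w using TensorProduct.induction_on with
          | zero => simp
          | tmul b v => simp [cb, fk, Algebra.smul_def, TensorProduct.smul_tmul', mul_comm]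
          | add a b ha hb => simp only [map_add, TensorProduct.tmul_add, smul_add, ha, hb]
        rw [LinearMap.baseChange_tmul, e1]
        simp [hk]
      | add a b ha hb => simp only [map_add, ha, hb, add_zero]
    have hz0 : P.subtype.baseChange k z = 0 := cb.injective (by rw [hz, map_zero])
    have hret : (proj F Φ g).rangeRestrict ∘ₗ P.subtype = LinearMap.id := by
      refine LinearMap.ext fun y => Subtype.ext ?_
      obtain ⟨_, x, rfl⟩ := y
      simp [proj_proj F hΦ]
    have := congrArg ((proj F Φ g).rangeRestrict.baseChange k) hz0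
    rw [← LinearMap.comp_apply, ← LinearMap.baseChange_comp, hret, LinearMap.baseChange_id] at this
    simpa using this

/-- The weights lie in `E`. -/
def InE (Φ : A →ₐ[R] MonoidAlgebra B G) (E : Set G) : Prop := ∀ g ∉ E, proj F Φ g = 0

/-- The locus where the weights lie in `E`. -/
def locus (Φ : A →ₐ[R] MonoidAlgebra B G) (E : Set G) : Set (PrimeSpectrum B) :=
  {p | ∀ g ∉ E, p ∉ supp F Φ g}

theorem isOpen_locus (Φ : A →ₐ[R] MonoidAlgebra B G) (E : Set G) : IsOpen (locus F Φ E) := by
  classical
  obtain ⟨s, hs⟩ := exists_finset_proj F Φ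
  have : locus F Φ E = ⋂ g ∈ s.filter (· ∉ E), (supp F Φ g)ᶜ := by
    ext p
    simp only [locus, Set.mem_ofPred_eq, Set.mem_iInter, Set.mem_compl_iff, Finset.mem_filter, and_imp]
    refine ⟨fun h g _ hg => h g hg, fun h g hg => ?_⟩
    by_cases hgs : g ∈ s
    · exact h g hgs hg
    · simp [(supp_eq_empty_iff F).2 (hs g hgs)]
  rw [this]
  exact isOpen_biInter_finset fun g _ => (isClosed_supp F Φ g).isOpen_compl

theorem inE_iff_locus (Φ : A →ₐ[R] MonoidAlgebra B G) (E : Set G) : InE F Φ E ↔ locus F Φ E = Set.univ := by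
  constructor
  · intro h
    refine Set.eq_univ_of_forall fun p g hg => ?_
    simp [(supp_eq_empty_iff F).2 (h g hg)]
  · intro h g hg
    rw [← supp_eq_empty_iff, Set.eq_empty_iff_forall_notMem]
    exact fun p => (h ▸ Set.mem_univ p : p ∈ locus F Φ E) g hg

theorem inE_map_iff (hΦ : IsFam Φ) (f : B →ₐ[R] C) (E : Set G) :
    InE F ((MonoidAlgebra.mapAlgHom G f).comp Φ) E ↔
      Set.range (PrimeSpectrum.comap f.toRingHom) ⊆ locus F Φ E := by
  rw [inE_iff_locus]
  constructor
  · rintro h _ ⟨q, rfl⟩ g hg hs
    exact (h ▸ Set.mem_univ q : q ∈ locus F _ E) g hg ((supp_map F hΦ f q g).2 hs)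
  · intro h
    refine Set.eq_univ_of_forall fun q g hg hs => ?_
    exact h ⟨q, rfl⟩ g hg ((supp_map F hΦ f q g).1 hs)

theorem InE.map (hΦ : IsFam Φ) {E : Set G} (h : InE F Φ E) (f : B →ₐ[R] C) :
    InE F ((MonoidAlgebra.mapAlgHom G f).comp Φ) E := by
  rw [inE_map_iff F hΦ, (inE_iff_locus F Φ E).1 h]
  exact Set.subset_univ _

theorem InE.cf_toA {E : Set G} (h : InE F Φ E) {g : G} (hg : g ∉ E) (v : F.V) : cf Φ g (F.toA v) = 0 := by
  rw [← back_proj, h g hg]
  simp

theorem exists_finset_inE (Φ : A →ₐ[R] MonoidAlgebra B G) : ∃ E : Finset G, InE F Φ (E : Set G) := by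
  obtain ⟨s, hs⟩ := exists_finset_proj F Φ
  exact ⟨s, fun g hg => hs g hg⟩

end Groth.Misc15.HomMT
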