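import Mathlib
import Groth.Agent.Misc15.HomMT.Weights

/-!
The affine scheme of families of homomorphisms with generators supported in a finite set of characters.
-/

set_option autoImplicit false
set_option linter.style.haveILetI false
set_option linter.unusedSectionVars false
set_option synthInstance.maxHeartbeats 200000

universe u v

open TensorProduct

noncomputable section

namespace Groth.Misc15.HomMT

variable {R : Type u} [CommRing R] {A : Type u} [CommRing A] [Bialgebra R A]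
  {G : Type v} [CommGroup G] {B : Type u} [CommRing B] [Algebra R B]

theorem mapAlgHom_eq_zero_iff {C : Type u} [CommRing C] [Algebra R C] (h : B →ₐ[R] C) (z : MonoidAlgebra B G) :
    MonoidAlgebra.mapAlgHom G h z = 0 ↔ ∀ g ∈ z.coeff.support, h (z.coeff g) = 0 := by
  constructor
  · intro hz g _
    rw [← MonoidAlgebra.coeff_mapAlgHom, hz]
    rfl
  · intro hh
    refine MonoidAlgebra.ext (Finsupp.ext fun g => ?_)
    rw [MonoidAlgebra.coeff_mapAlgHom]
    by_cases hg : g ∈ z.coeff.support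
    · exact hh _ hg
    · rw [Finsupp.notMem_support_iff.1 hg, map_zero]
      rfl

theorem exists_killed [Algebra.FinitePresentation R B] (T : Finset B) :
    ∃ (W : Type u) (_ : CommRing W) (_ : Algebra R W) (q : B →ₐ[R] W), Algebra.FinitePresentation R W ∧
      (∀ t ∈ T, q t = 0) ∧
      ∀ (C : Type u) [CommRing C] [Algebra R C] (h : B →ₐ[R] C), (∀ t ∈ T, h t = 0) → ∃! k : W →ₐ[R] C, k.comp q = h := by
  let I : Ideal B := Ideal.span (T : Set B)
  refine ⟨B ⧸ I, inferInstance, inferInstance, Ideal.Quotient.mkₐ R I,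
    Algebra.FinitePresentation.quotient ⟨T, rfl⟩,
    fun t ht => Ideal.Quotient.eq_zero_iff_mem.2 (Ideal.subset_span ht), fun C _ _ h hT => ?_⟩
  have hI : ∀ b ∈ I, h b = 0 := fun b hb => by
    have : I ≤ RingHom.ker h.toRingHom := Ideal.span_le.2 hT
    exact this hb
  refine ⟨Ideal.Quotient.liftₐ I h hI, Ideal.Quotient.liftₐ_comp I h hI, fun k hk => ?_⟩
  refine AlgHom.ext fun y => ?_
  obtain ⟨b, rfl⟩ := Ideal.Quotient.mk_surjective y
  exact AlgHom.congr_fun hk b

section

variable {n : ℕ} (x : Fin n → A) (hx : Algebra.adjoin R (Set.range x) = ⊤)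

/-- The generators are supported in `E`. -/
def Supp (Φ : A →ₐ[R] MonoidAlgebra B G) (E : Finset G) : Prop :=
  ∀ i, ∀ g ∉ E, cf Φ g (x i) = 0

theorem Supp.map {Φ : A →ₐ[R] MonoidAlgebra B G} {E : Finset G} (h : Supp x Φ E) {C : Type u} [CommRing C]
    [Algebra R C] (f : B →ₐ[R] C) : Supp x ((MonoidAlgebra.mapAlgHom G f).comp Φ) E := fun i g hg => by
  rw [cf_map, h i g hg, map_zero]

include hx in
theorem algHom_ext_gen {C : Type*} [CommRing C] [Algebra R C] {f g : A →ₐ[R] C} (h : ∀ i, f (x i) = g (x i)) :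
    f = g :=
  AlgHom.ext_of_adjoin_eq_top hx (by rintro _ ⟨i, rfl⟩; exact h i)

include hx in
theorem exists_universal_hom [Algebra.FinitePresentation R A] (E : Finset G) :
    ∃ (W : Type u) (_ : CommRing W) (_ : Algebra R W) (Ψ : A →ₐ[R] MonoidAlgebra W G),
      Algebra.FinitePresentation R W ∧ Supp x Ψ E ∧
      ∀ (C : Type u) [CommRing C] [Algebra R C] (Φ : A →ₐ[R] MonoidAlgebra C G), Supp x Φ E →
        ∃! k : W →ₐ[R] C, (MonoidAlgebra.mapAlgHom G k).comp Ψ = Φ := by
  classical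
  let m := E.card
  let e : E ≃ Fin m := E.equivFin
  let P := MvPolynomial (Fin n × Fin m) R
  let Ψ₀ : MvPolynomial (Fin n) R →ₐ[R] MonoidAlgebra P G :=
    MvPolynomial.aeval fun i => ∑ g : E, MonoidAlgebra.single g.1 (MvPolynomial.X (i, e g))
  let φ : MvPolynomial (Fin n) R →ₐ[R] A := MvPolynomial.aeval x
  have hφ : Function.Surjective φ := by
    rw [← AlgHom.range_eq_top, ← Algebra.adjoin_range_eq_range_aeval, hx]
  obtain ⟨J, hJ⟩ := Algebra.FinitePresentation.ker_fG_of_surjective φ hφ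
  let T : Finset P := J.biUnion fun f => (Ψ₀ f).coeff.support.image (Ψ₀ f).coeff
  obtain ⟨W, _, _, q, hW, hq, huniv⟩ := exists_killed (R := R) T
  let Ψ₁ := (MonoidAlgebra.mapAlgHom G q).comp Ψ₀
  have hker : ∀ f, φ f = 0 → Ψ₁ f = 0 := fun f hf => by
    have hle : Ideal.span (J : Set (MvPolynomial (Fin n) R)) ≤ RingHom.ker Ψ₁.toRingHom :=
      Ideal.span_le.2 fun j hj => (mapAlgHom_eq_zero_iff q _).2 fun c hc => hq _ (Finset.mem_biUnion.2 ⟨j, hj, Finset.mem_image_of_mem _ hc⟩)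
    refine hle ?_
    rw [hJ]
    exact hf
  let Ψ : A →ₐ[R] MonoidAlgebra W G := AlgHom.liftOfSurjective φ hφ Ψ₁ fun f hf => hker f hf
  have hΨx : ∀ i, Ψ (x i) = ∑ g : E, MonoidAlgebra.single g.1 (q (MvPolynomial.X (i, e g))) := fun i => by
    have h := AlgHom.liftOfSurjective_apply φ hφ Ψ₁ (fun f hf => hker f hf) (MvPolynomial.X i)
    rw [show φ (MvPolynomial.X i) = x i from MvPolynomial.aeval_X _ _] at h
    rw [show Ψ (x i) = Ψ₁ (MvPolynomial.X i) from h]
    simp [Ψ₁, Ψ₀]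
  have hcoeff : ∀ {C : Type u} [CommRing C] (c : E → C) (g : G),
      (∑ g' : E, MonoidAlgebra.single g'.1 (c g')).coeff g = if hg : g ∈ E then c ⟨g, hg⟩ else 0 := by
    intro C _ c g
    simp only [MonoidAlgebra.coeff_sum, Finset.sum_apply', MonoidAlgebra.coeff_single, Finsupp.single_apply]
    split_ifs with hg
    · rw [Finset.sum_eq_single (⟨g, hg⟩ : E) (fun b _ hb => if_neg fun h => hb (Subtype.ext h)) (by simp),
        if_pos rfl]
    · exact Finset.sum_eq_zero fun b _ => if_neg fun (h : (b : G) = g) => hg (h ▸ b.2)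
  refine ⟨W, inferInstance, inferInstance, Ψ, hW, fun i g hg => ?_, fun C _ _ Φ hΦ => ?_⟩
  · rw [cf_apply, hΨx, hcoeff, dif_neg hg]
  let h : P →ₐ[R] C := MvPolynomial.aeval fun p => cf Φ (e.symm p.2).1 (x p.1)
  have hh : (MonoidAlgebra.mapAlgHom G h).comp Ψ₀ = Φ.comp φ := by
    refine MvPolynomial.algHom_ext fun i => MonoidAlgebra.ext (Finsupp.ext fun g => ?_)
    simp only [AlgHom.comp_apply, Ψ₀, φ, MvPolynomial.aeval_X, map_sum, MonoidAlgebra.mapAlgHom_single,
      hcoeff]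
    split_ifs with hg
    · rw [show h (MvPolynomial.X (i, e ⟨g, hg⟩)) = cf Φ (e.symm (e ⟨g, hg⟩)).1 (x i) from MvPolynomial.aeval_X _ _,
        Equiv.symm_apply_apply]
      rfl
    · exact (hΦ i g hg).symm
  have hT : ∀ t ∈ T, h t = 0 := fun t ht => by
    obtain ⟨j, hj, hc⟩ := Finset.mem_biUnion.1 ht
    obtain ⟨g', hg', rfl⟩ := Finset.mem_image.1 hc
    refine (mapAlgHom_eq_zero_iff h _).1 ?_ g' hg'
    have hj0 : φ j = 0 := by
      have : j ∈ RingHom.ker φ.toRingHom := by rw [← hJ]; exact Ideal.subset_span hj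
      exact this
    exact (AlgHom.congr_fun hh j).trans (by simp [hj0])
  obtain ⟨k, hk, hku⟩ := huniv C h hT
  refine ⟨k, algHom_ext_gen x hx fun i => ?_, fun k' hk' => hku k' (MvPolynomial.algHom_ext fun p => ?_)⟩
  · refine MonoidAlgebra.ext (Finsupp.ext fun g => ?_)
    rw [AlgHom.comp_apply, MonoidAlgebra.coeff_mapAlgHom, hΨx, hcoeff]
    split_ifs with hg
    · rw [← AlgHom.comp_apply, hk]
      rw [show h (MvPolynomial.X (i, e ⟨g, hg⟩)) = cf Φ (e.symm (e ⟨g, hg⟩)).1 (x i) from MvPolynomial.aeval_X _ _,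
        Equiv.symm_apply_apply]
      rfl
    · rw [map_zero]
      exact (hΦ i g hg).symm
  · have h2 := congrArg (fun F' : A →ₐ[R] MonoidAlgebra C G => cf F' (e.symm p.2).1 (x p.1)) hk'
    simp only [cf_map] at h2
    rw [cf_apply, hΨx, hcoeff, dif_pos (e.symm p.2).2] at h2
    simpa [h] using h2

include hx in
/-- The universal family of homomorphisms with generators supported in `E`. -/
theorem exists_universal [Algebra.FinitePresentation R A] (E : Finset G) :
    ∃ (W : Type u) (_ : CommRing W) (_ : Algebra R W) (Φ₀ : A →ₐ[R] MonoidAlgebra W G),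
      Algebra.FinitePresentation R W ∧ IsFam Φ₀ ∧ Supp x Φ₀ E ∧
      ∀ (C : Type u) [CommRing C] [Algebra R C] (Φ : A →ₐ[R] MonoidAlgebra C G), IsFam Φ → Supp x Φ E →
        ∃! k : W →ₐ[R] C, (MonoidAlgebra.mapAlgHom G k).comp Φ₀ = Φ := by
  classical
  obtain ⟨W, _, _, Ψ, hW, hsupp, huniv⟩ := exists_universal_hom x hx E
  haveI := hW
  let dd : MonoidAlgebra W G →ₐ[R] MonoidAlgebra W (G × G) :=
    MonoidAlgebra.mapDomainAlgHom R W ((MonoidHom.id G).prod (MonoidHom.id G))
  let d2 : A →ₐ[R] MonoidAlgebra W (G × G) :=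
    conv ((MonoidAlgebra.mapDomainAlgHom R W (MonoidHom.inl G G)).comp Ψ)
      ((MonoidAlgebra.mapDomainAlgHom R W (MonoidHom.inr G G)).comp Ψ)
  let z : Fin n → MonoidAlgebra W (G × G) := fun i => dd (Ψ (x i)) - d2 (x i)
  let o : Fin n → W := fun i => ev (AlgHom.id R W) 1 (Ψ (x i)) - algebraMap R W (Coalgebra.counit (R := R) (x i))
  let T : Finset W := (Finset.univ.biUnion fun i => (z i).coeff.support.image (z i).coeff) ∪ Finset.univ.image o
  obtain ⟨W', _, _, q, hW', hq, huniv'⟩ := exists_killed (R := R) T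
  have nat : ∀ {C : Type u} [CommRing C] [Algebra R C] (h : W →ₐ[R] C) {G' : Type v} [CommGroup G'] (k : G →* G'),
      (MonoidAlgebra.mapAlgHom G' h).comp (MonoidAlgebra.mapDomainAlgHom R W k) =
        (MonoidAlgebra.mapDomainAlgHom R C k).comp (MonoidAlgebra.mapAlgHom G h) := fun h _ _ k =>
    MonoidAlgebra.algHom_ext (fun g => by simp) (AlgHom.ext fun b => by simp)
  have key : ∀ {C : Type u} [CommRing C] [Algebra R C] (h : W →ₐ[R] C),
      (∀ t ∈ T, h t = 0) ↔ IsFam ((MonoidAlgebra.mapAlgHom G h).comp Ψ) := by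
    intro C _ _ h
    have e1 : ∀ i, MonoidAlgebra.mapAlgHom (G × G) h (z i) =
        (MonoidAlgebra.mapDomainAlgHom R C ((MonoidHom.id G).prod (MonoidHom.id G)))
          (((MonoidAlgebra.mapAlgHom G h).comp Ψ) (x i)) -
        conv ((MonoidAlgebra.mapDomainAlgHom R C (MonoidHom.inl G G)).comp ((MonoidAlgebra.mapAlgHom G h).comp Ψ))
          ((MonoidAlgebra.mapDomainAlgHom R C (MonoidHom.inr G G)).comp ((MonoidAlgebra.mapAlgHom G h).comp Ψ))
          (x i) := fun i => by
      simp only [← AlgHom.comp_assoc, ← nat]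
      simp only [AlgHom.comp_assoc, ← comp_conv, z, map_sub]
      rw [← AlgHom.comp_apply (MonoidAlgebra.mapAlgHom (G × G) h) dd, nat]
      rfl
    have e2 : ∀ i, h (o i) = ev (AlgHom.id R C) 1 (((MonoidAlgebra.mapAlgHom G h).comp Ψ) (x i)) -
        algebraMap R C (Coalgebra.counit (R := R) (x i)) := fun i => by
      simp only [o, map_sub, AlgHom.commutes, AlgHom.comp_apply]
      rw [← AlgHom.comp_apply h, comp_ev, ← AlgHom.comp_apply (ev (AlgHom.id R C) 1) (MonoidAlgebra.mapAlgHom G h),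
        ev_comp_mapAlgHom, AlgHom.comp_id, AlgHom.id_comp, MonoidHom.comp_one]
    constructor
    · intro hT
      refine ⟨algHom_ext_gen x hx fun i => ?_, algHom_ext_gen x hx fun i => ?_⟩
      · rw [← sub_eq_zero, AlgHom.comp_apply, ← e1, mapAlgHom_eq_zero_iff]
        exact fun c hc => hT _ (Finset.mem_union_left _ (Finset.mem_biUnion.2 ⟨i, Finset.mem_univ _, Finset.mem_image_of_mem _ hc⟩))
      · show ev (AlgHom.id R C) 1 (((MonoidAlgebra.mapAlgHom G h).comp Ψ) (x i)) =
          algebraMap R C (Coalgebra.counit (R := R) (x i))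
        rw [← sub_eq_zero, ← e2]
        exact hT _ (Finset.mem_union_right _ (Finset.mem_image_of_mem _ (Finset.mem_univ i)))
    · intro hF t ht
      rcases Finset.mem_union.1 ht with ht | ht
      · obtain ⟨i, -, hc⟩ := Finset.mem_biUnion.1 ht
        obtain ⟨g', hg', rfl⟩ := Finset.mem_image.1 hc
        refine (mapAlgHom_eq_zero_iff h _).1 ?_ g' hg'
        rw [e1, sub_eq_zero]
        exact AlgHom.congr_fun hF.mul (x i)
      · obtain ⟨i, -, rfl⟩ := Finset.mem_image.1 ht
        rw [e2, sub_eq_zero]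
        exact AlgHom.congr_fun hF.one (x i)
  refine ⟨W', inferInstance, inferInstance, (MonoidAlgebra.mapAlgHom G q).comp Ψ, hW', (key q).1 hq,
    hsupp.map x q, fun C _ _ Φ hΦ hs => ?_⟩
  obtain ⟨k, hk, hku⟩ := huniv C Φ hs
  beta_reduce at hk
  obtain ⟨k', hk', hku'⟩ := huniv' C k ((key k).2 (hk.symm ▸ hΦ))
  beta_reduce at hk'
  refine ⟨k', ?_, fun l hl => hku' l (hku _ ?_)⟩
  · beta_reduce
    rw [← AlgHom.comp_assoc, ← MonoidAlgebra.mapRangeAlgHom_comp, hk', hk]
  · beta_reduce at hl ⊢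
    rw [MonoidAlgebra.mapRangeAlgHom_comp, AlgHom.comp_assoc, hl]

end

end Groth.Misc15.HomMT
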