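import Mathlib
import Groth.Agent.Misc15.HomMT.Universal
import Groth.Agent.GrassRep.Pts

/-!
The scheme of homomorphisms from a diagonalisable group to a smooth affine monoid: the union of the
open loci with weights in finite sets of characters.
-/

set_option autoImplicit false
set_option linter.style.haveILetI false
set_option linter.unusedSectionVars false
set_option synthInstance.maxHeartbeats 200000

universe u

open TensorProduct CategoryTheory CategoryTheory.Limits AlgebraicGeometry
open Groth.GrassRep (Pt ptMap)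

noncomputable section

namespace Groth.Misc15.HomMT

variable {R : Type u} [CommRing R] {A : Type u} [CommRing A] [Bialgebra R A]
  [Algebra.FinitePresentation R A] {G : Type} [CommGroup G] (F : FinComod R A)

/-- The number of chosen generators. -/
def ngen : ℕ := (Module.Finite.exists_fin (R := R) (M := F.V)).choose

/-- The chosen generators. -/
def genV : Fin (ngen F) → F.V := (Module.Finite.exists_fin (R := R) (M := F.V)).choose_spec.choose

theorem span_genV : Submodule.span R (Set.range (genV F)) = ⊤ :=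
  (Module.Finite.exists_fin (R := R) (M := F.V)).choose_spec.choose_spec

/-- The chosen generators of the coordinate ring. -/
def genA : Fin (ngen F) → A := F.toA ∘ genV F

theorem adjoin_genA : Algebra.adjoin R (Set.range (genA F)) = ⊤ := by
  refine top_le_iff.1 ?_
  rw [← F.gen]
  refine Algebra.adjoin_le ?_
  rintro _ ⟨v, rfl⟩
  have hv : v ∈ Submodule.span R (Set.range (genV F)) := by rw [span_genV]; trivial
  induction hv using Submodule.span_induction with
  | mem w hw =>
    obtain ⟨i, rfl⟩ := hw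
    exact Algebra.subset_adjoin ⟨i, rfl⟩
  | zero => rw [map_zero]; exact zero_mem _
  | add p q _ _ hp hq => rw [map_add]; exact add_mem hp hq
  | smul c p _ hp => rw [map_smul]; exact Subalgebra.smul_mem _ hp c

theorem InE.supp {B : Type u} [CommRing B] [Algebra R B] {Φ : A →ₐ[R] MonoidAlgebra B G} {E : Finset G}
    (h : InE F Φ (E : Set G)) : Supp (genA F) Φ E := fun i _ hg => h.cf_toA F hg (genV F i)

/-- A universal family. -/
structure UData (E : Finset G) where
  /-- its ring -/
  W : Type u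
  [commW : CommRing W]
  [algW : Algebra R W]
  /-- the family -/
  Φ : A →ₐ[R] MonoidAlgebra W G
  fp : Algebra.FinitePresentation R W
  fam : IsFam Φ
  supp : Supp (genA F) Φ E
  univ : ∀ (C : Type u) [CommRing C] [Algebra R C] (Ψ : A →ₐ[R] MonoidAlgebra C G), IsFam Ψ → Supp (genA F) Ψ E →
    ∃! k : W →ₐ[R] C, (MonoidAlgebra.mapAlgHom G k).comp Φ = Ψ

attribute [instance] UData.commW UData.algW

/-- The chosen universal family. -/
def uData (E : Finset G) : UData F E :=
  Nonempty.some (by
    obtain ⟨W, _, _, Φ, h1, h2, h3, h4⟩ := exists_universal (genA F) (adjoin_genA F) E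
    exact ⟨⟨W, Φ, h1, h2, h3, h4⟩⟩)

/-- Families with weights in a set. -/
def Fam (E : Set G) (B : CommAlgCat.{u} R) : Type u :=
  {Φ : A →ₐ[R] MonoidAlgebra B G // IsFam Φ ∧ InE F Φ E}

/-- The open piece with weights in `E` of the affine scheme of families supported in `E'`. -/
def openE (E E' : Finset G) : (Pt (CommAlgCat.of R (uData F E').W)).left.Opens :=
  ⟨locus F (uData F E').Φ (E : Set G), isOpen_locus F _ _⟩

/-- It as a scheme over `R`. -/
def obE (E E' : Finset G) : Over (Spec (CommRingCat.of R)) :=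
  Over.mk ((openE F E E').ι ≫ (Pt (CommAlgCat.of R (uData F E').W)).hom)

/-- The inclusion. -/
def inclE (E E' : Finset G) : obE F E E' ⟶ Pt (CommAlgCat.of R (uData F E').W) :=
  Over.homMk (openE F E E').ι rfl

instance (E E' : Finset G) : IsOpenImmersion (inclE F E E').left :=
  inferInstanceAs (IsOpenImmersion (openE F E E').ι)

theorem inclE_mono {E E' : Finset G} {X : Over (Spec (CommRingCat.of R))} {a b : X ⟶ obE F E E'}
    (h : a ≫ inclE F E E' = b ≫ inclE F E E') : a = b :=
  Over.OverMorphism.ext ((cancel_mono (inclE F E E').left).1 (congrArg CommaMorphism.left h))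

theorem ptMap_injective {B C : CommAlgCat.{u} R} {f g : B ⟶ C} (h : ptMap f = ptMap g) : f = g := by
  have h1 : Spec.map (CommRingCat.ofHom f.hom.toRingHom) = Spec.map (CommRingCat.ofHom g.hom.toRingHom) :=
    congrArg CommaMorphism.left h
  have h2 := CommRingCat.hom_ext_iff.1 (Spec.map_injective h1)
  exact CommAlgCat.hom_ext (AlgHom.ext fun b => RingHom.congr_fun h2 b)

theorem exists_toObE {E E' : Finset G} (hE : E ⊆ E') (B : CommAlgCat.{u} R) (Φ : Fam F (E : Set G) B) :
    ∃ (g : Pt B ⟶ obE F E E') (k : (uData F E').W →ₐ[R] B),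
      g ≫ inclE F E E' = ptMap (CommAlgCat.ofHom k) ∧
      (MonoidAlgebra.mapAlgHom G k).comp (uData F E').Φ = Φ.1 := by
  have hs : Supp (genA F) Φ.1 E' := fun i g hg => InE.supp F Φ.2.2 i g fun h => hg (hE h)
  obtain ⟨k, hk, -⟩ := (uData F E').univ B Φ.1 Φ.2.1 hs
  have hr : Set.range (ptMap (CommAlgCat.ofHom k)).left ⊆ Set.range (inclE F E E').left := by
    rw [show Set.range (inclE F E E').left = locus F (uData F E').Φ (E : Set G) from (openE F E E').range_ι]
    exact (inE_map_iff F (uData F E').fam k _).1 (by rw [hk]; exact Φ.2.2)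
  refine ⟨Over.homMk (IsOpenImmersion.lift (inclE F E E').left (ptMap (CommAlgCat.ofHom k)).left hr) ?_, k, ?_, hk⟩
  · show _ ≫ (inclE F E E').left ≫ (Pt (CommAlgCat.of R (uData F E').W)).hom = _
    rw [IsOpenImmersion.lift_fac_assoc]
    exact Over.w (ptMap (CommAlgCat.ofHom k))
  · exact Over.OverMorphism.ext (IsOpenImmersion.lift_fac _ _ _)

/-- The point of a family. -/
def toObE {E E' : Finset G} (hE : E ⊆ E') (B : CommAlgCat.{u} R) (Φ : Fam F (E : Set G) B) : Pt B ⟶ obE F E E' :=
  (exists_toObE F hE B Φ).choose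

/-- The family of a point. -/
def famObE {E E' : Finset G} {B : CommAlgCat.{u} R} (g : Pt B ⟶ obE F E E') : Fam F (E : Set G) B := by
  let k := (Groth.GrassRep.exists_ptMap (g ≫ inclE F E E')).choose
  refine ⟨(MonoidAlgebra.mapAlgHom G k.hom).comp (uData F E').Φ, (uData F E').fam.map _,
    (inE_map_iff F (uData F E').fam k.hom _).2 ?_⟩
  have hk : g ≫ inclE F E E' = ptMap k := (Groth.GrassRep.exists_ptMap (g ≫ inclE F E E')).choose_spec
  rintro _ ⟨q, rfl⟩
  show (ptMap k).left q ∈ (openE F E E' : Set _)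
  rw [← hk, Over.comp_left, Scheme.Hom.comp_apply]
  exact (g.left q).2

theorem famObE_eq {E E' : Finset G} {B : CommAlgCat.{u} R} (g : Pt B ⟶ obE F E E') (k : (uData F E').W →ₐ[R] B)
    (h : g ≫ inclE F E E' = ptMap (CommAlgCat.ofHom k)) :
    (famObE F g).1 = (MonoidAlgebra.mapAlgHom G k).comp (uData F E').Φ := by
  have hk := (Groth.GrassRep.exists_ptMap (g ≫ inclE F E E')).choose_spec
  have := ptMap_injective (hk.symm.trans h)
  show (MonoidAlgebra.mapAlgHom G (Groth.GrassRep.exists_ptMap (g ≫ inclE F E E')).choose.hom).comp _ = _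
  rw [this]
  rfl

/-- Points of the open piece are the families with weights in `E`. -/
def eqvObE {E E' : Finset G} (hE : E ⊆ E') (B : CommAlgCat.{u} R) : (Pt B ⟶ obE F E E') ≃ Fam F (E : Set G) B where
  toFun := famObE F
  invFun := toObE F hE B
  left_inv g := by
    obtain ⟨k, h1, h2⟩ := (exists_toObE F hE B (famObE F g)).choose_spec
    obtain ⟨k', hk'⟩ := Groth.GrassRep.exists_ptMap (g ≫ inclE F E E')
    have h3 := famObE_eq F g k'.hom (hk'.trans rfl)
    rw [← h2] at h3
    have hs : Supp (genA F) ((MonoidAlgebra.mapAlgHom G k).comp (uData F E').Φ) E' := (uData F E').supp.map _ k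
    have : k = k'.hom :=
      ((uData F E').univ B _ ((uData F E').fam.map k) hs).unique rfl h3.symm
    refine inclE_mono F ?_
    show (exists_toObE F hE B (famObE F g)).choose ≫ _ = _
    rw [h1, hk', this]
    rfl
  right_inv Φ := by
    obtain ⟨k, h1, h2⟩ := (exists_toObE F hE B Φ).choose_spec
    refine Subtype.ext ?_
    show (famObE F (exists_toObE F hE B Φ).choose).1 = Φ.1
    rw [famObE_eq F _ k h1, h2]

theorem famObE_comp {E E' : Finset G} {B C : CommAlgCat.{u} R} (φ : B ⟶ C) (g : Pt B ⟶ obE F E E') :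
    (famObE F (ptMap φ ≫ g)).1 = (MonoidAlgebra.mapAlgHom G φ.hom).comp (famObE F g).1 := by
  obtain ⟨k, hk⟩ := Groth.GrassRep.exists_ptMap (g ≫ inclE F E E')
  have h1 : (ptMap φ ≫ g) ≫ inclE F E E' = ptMap (CommAlgCat.ofHom (φ.hom.comp k.hom)) := by
    rw [Category.assoc, hk, ← Groth.GrassRep.ptMap_comp]
    rfl
  rw [famObE_eq F _ _ h1, famObE_eq F g k.hom (hk.trans rfl), ← AlgHom.comp_assoc, MonoidAlgebra.mapRangeAlgHom_comp]

/-- The piece with weights in `E`. -/
abbrev U (E : Finset G) : Over (Spec (CommRingCat.of R)) := obE F E E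

theorem obE_hom_ext {E E₀ : Finset G} (hE : E ⊆ E₀) {X : Over (Spec (CommRingCat.of R))} {a b : X ⟶ obE F E E₀}
    (h : ∀ (B : CommAlgCat.{u} R) (g : Pt B ⟶ X), (famObE F (g ≫ a)).1 = (famObE F (g ≫ b)).1) : a = b :=
  Groth.GrassRep.hom_ext _ _ fun B g => (eqvObE F hE B).injective (Subtype.ext (h B g))

theorem exists_trans {E E' : Finset G} (hE : E ⊆ E') :
    ∃ t : U F E ⟶ U F E', (∀ (B : CommAlgCat.{u} R) (g : Pt B ⟶ U F E), (famObE F (g ≫ t)).1 = (famObE F g).1) ∧
      IsOpenImmersion t.left ∧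
      Set.range t.left = {z : (U F E').left | (inclE F E' E').left z ∈ openE F E E'} := by
  have hmono : ∀ {B : CommAlgCat.{u} R}, Fam F (E : Set G) B → Fam F (E' : Set G) B := fun Φ =>
    ⟨Φ.1, Φ.2.1, fun g hg => Φ.2.2 g fun h => hg (hE h)⟩
  obtain ⟨i, hi⟩ := Groth.GrassRep.exists_iso_of_pts (X := U F E) (Y := obE F E E')
    (fun B => (eqvObE F (le_refl E) B).trans (eqvObE F hE B).symm) fun B C φ g => by
      apply (eqvObE F hE C).injective
      simp only [Equiv.trans_apply, Equiv.apply_symm_apply]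
      refine Subtype.ext ((famObE_comp F φ g).trans ?_)
      show _ = (famObE F (ptMap φ ≫ _)).1
      rw [famObE_comp]
      congr 2
      exact ((eqvObE F hE B).apply_symm_apply _).symm
  have hle : openE F E E' ≤ openE F E' E' := fun p hp g hg => hp g fun h => hg (hE h)
  let j : obE F E E' ⟶ U F E' := Over.homMk ((Pt (CommAlgCat.of R (uData F E').W)).left.homOfLE hle) (by
    exact (Category.assoc _ _ _).symm.trans (congrArg (· ≫ _) (Scheme.homOfLE_ι _ hle)))
  have hj : j ≫ inclE F E' E' = inclE F E E' := Over.OverMorphism.ext (Scheme.homOfLE_ι _ hle)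
  haveI : IsIso i.hom.left := inferInstanceAs (IsIso ((Over.forget _).map i.hom))
  haveI : IsOpenImmersion j.left :=
    inferInstanceAs (IsOpenImmersion ((Pt (CommAlgCat.of R (uData F E').W)).left.homOfLE hle))
  refine ⟨i.hom ≫ j, fun B g => ?_, inferInstanceAs (IsOpenImmersion (i.hom.left ≫ j.left)), ?_⟩
  · obtain ⟨k, hk⟩ := Groth.GrassRep.exists_ptMap ((g ≫ i.hom) ≫ inclE F E E')
    have h1 := famObE_eq F (g ≫ i.hom) k.hom (hk.trans rfl)
    have h2 : (g ≫ i.hom ≫ j) ≫ inclE F E' E' = ptMap k := by rw [← hk]; simp [hj]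
    rw [famObE_eq F _ k.hom (h2.trans rfl), ← h1, hi]
    show ((eqvObE F hE B) ((eqvObE F hE B).symm _)).1 = _
    rw [Equiv.apply_symm_apply]
    rfl
  · have hsurj : Function.Surjective i.hom.left := i.hom.left.homeomorph.surjective
    rw [Over.comp_left, Scheme.Hom.comp_base, TopCat.coe_comp, hsurj.range_comp]
    ext z
    constructor
    · rintro ⟨w, rfl⟩
      show (inclE F E' E').left (j.left w) ∈ openE F E E'
      rw [← Scheme.Hom.comp_apply, ← Over.comp_left, hj]
      exact w.2
    · intro hz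
      refine ⟨⟨(inclE F E' E').left z, hz⟩, (inclE F E' E').left.isOpenEmbedding.injective ?_⟩
      show (inclE F E' E').left (j.left _) = _
      rw [← Scheme.Hom.comp_apply, ← Over.comp_left, hj]
      rfl

/-- The transition map. -/
def tr {E E' : Finset G} (hE : E ⊆ E') : U F E ⟶ U F E' := (exists_trans F hE).choose

theorem famObE_tr {E E' : Finset G} (hE : E ⊆ E') {B : CommAlgCat.{u} R} (g : Pt B ⟶ U F E) :
    (famObE F (g ≫ tr F hE)).1 = (famObE F g).1 := (exists_trans F hE).choose_spec.1 B g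

instance {E E' : Finset G} (hE : E ⊆ E') : IsOpenImmersion (tr F hE).left := (exists_trans F hE).choose_spec.2.1

theorem range_tr {E E' : Finset G} (hE : E ⊆ E') :
    Set.range (tr F hE).left = {z : (U F E').left | (inclE F E' E').left z ∈ openE F E E'} :=
  (exists_trans F hE).choose_spec.2.2

theorem tr_tr {E E' E'' : Finset G} (h : E ⊆ E') (h' : E' ⊆ E'') :
    tr F h ≫ tr F h' = tr F (h.trans h') :=
  obE_hom_ext F (le_refl E'') fun B g => by
    rw [← Category.assoc, famObE_tr, famObE_tr, famObE_tr]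

theorem tr_refl (E : Finset G) : tr F (le_refl E) = 𝟙 _ :=
  obE_hom_ext F (le_refl E) fun B g => by rw [Category.comp_id, famObE_tr]

/-- The diagram of pieces. -/
def diag : Finset G ⥤ Scheme.{u} where
  obj E := (U F E).left
  map h := (tr F (leOfHom h)).left
  map_id E := congrArg CommaMorphism.left (tr_refl F E)
  map_comp f g := (congrArg CommaMorphism.left (tr_tr F (leOfHom f) (leOfHom g))).symm

instance {E E' : Finset G} (h : E ⟶ E') : IsOpenImmersion ((diag F).map h) :=
  inferInstanceAs (IsOpenImmersion (tr F (leOfHom h)).left)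

instance : (diag (G := G) F ⋙ Scheme.forget).IsLocallyDirected := by
  classical
  constructor
  intro i j k fi fj xi xj hx
  have hik : i ⊆ k := leOfHom fi
  have hjk : j ⊆ k := leOfHom fj
  have hij : i ∩ j ⊆ k := Finset.inter_subset_left.trans hik
  have hz : (tr F hik).left xi ∈ Set.range (tr F hij).left := by
    rw [range_tr]
    have h1 : (tr F hik).left xi ∈ Set.range (tr F hik).left := ⟨xi, rfl⟩
    have h2 : (tr F hik).left xi ∈ Set.range (tr F hjk).left := ⟨xj, hx.symm⟩
    rw [range_tr] at h1 h2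
    intro g hg
    by_cases hgi : g ∈ i
    · exact h2 g fun hgj => hg (by simp [Finset.mem_inter, hgi, show g ∈ j from hgj])
    · exact h1 g hgi
  obtain ⟨y, hy⟩ := hz
  refine ⟨i ∩ j, homOfLE Finset.inter_subset_left, homOfLE Finset.inter_subset_right, y, ?_, ?_⟩
  · apply (tr F hik).left.isOpenEmbedding.injective
    show (tr F hik).left ((tr F (Finset.inter_subset_left : i ∩ j ⊆ i)).left y) = _
    rw [← Scheme.Hom.comp_apply, ← Over.comp_left, tr_tr]
    exact hy
  · apply (tr F hjk).left.isOpenEmbedding.injective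
    show (tr F hjk).left ((tr F (Finset.inter_subset_right : i ∩ j ⊆ j)).left y) = _
    rw [← Scheme.Hom.comp_apply, ← Over.comp_left, tr_tr]
    exact hy.trans hx

/-- The scheme of homomorphisms over the base. -/
def homS : Over (Spec (CommRingCat.of R)) :=
  Over.mk (colimit.desc (diag (G := G) F)
    { pt := Spec (CommRingCat.of R)
      ι := { app := fun E => (U F E).hom
             naturality := fun _ _ h => (Over.w (tr F (leOfHom h))).trans (Category.comp_id _).symm } })

/-- The inclusion of a piece. -/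
def inclU (E : Finset G) : U F E ⟶ homS (G := G) F := Over.homMk (colimit.ι (diag F) E) (colimit.ι_desc _ _)

theorem tr_inclU {E E' : Finset G} (h : E ⊆ E') : tr F h ≫ inclU F E' = inclU F E :=
  Over.OverMorphism.ext (colimit.w (diag F) (homOfLE h))

instance (E : Finset G) : IsOpenImmersion (inclU F E).left :=
  inferInstanceAs (IsOpenImmersion (colimit.ι (diag F) E))

theorem inclU_jointly_surjective (z : (homS (G := G) F).left) : ∃ E, z ∈ Set.range (inclU F E).left := by
  obtain ⟨E, w, hw⟩ := Scheme.IsLocallyDirected.ι_jointly_surjective (diag F) z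
  exact ⟨E, w, hw⟩

theorem exists_lift_inclU (B : CommAlgCat.{u} R) (a : Pt B ⟶ homS (G := G) F) :
    ∃ (E : Finset G) (g : Pt B ⟶ U F E), g ≫ inclU F E = a := by
  classical
  haveI : CompactSpace (Pt B).left := inferInstanceAs (CompactSpace (Spec (CommRingCat.of B)))
  obtain ⟨t, ht⟩ := (CompactSpace.isCompact_univ (X := (Pt B).left)).elim_finite_subcover
    (fun E => ((a.left ⁻¹ᵁ (inclU F E).left.opensRange : (Pt B).left.Opens) : Set (Pt B).left))
    (fun E => (a.left ⁻¹ᵁ (inclU F E).left.opensRange).isOpen) fun z _ => by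
      obtain ⟨E, hE⟩ := inclU_jointly_surjective F (a.left z)
      exact Set.mem_iUnion.2 ⟨E, hE⟩
  let E₀ : Finset G := t.sup id
  have hr : Set.range a.left ⊆ Set.range (inclU F E₀).left := by
    rintro _ ⟨z, rfl⟩
    obtain ⟨E, hE, hz⟩ := Set.mem_iUnion₂.1 (ht (Set.mem_univ z))
    obtain ⟨w, hw⟩ := hz
    refine ⟨(tr F (Finset.le_sup (f := id) hE : E ⊆ E₀)).left w, ?_⟩
    rw [← Scheme.Hom.comp_apply, ← Over.comp_left, tr_inclU]
    exact hw
  refine ⟨E₀, Over.homMk (IsOpenImmersion.lift (inclU F E₀).left a.left hr) ?_,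
    Over.OverMorphism.ext (IsOpenImmersion.lift_fac _ _ _)⟩
  rw [← Over.w (inclU F E₀), IsOpenImmersion.lift_fac_assoc]
  exact Over.w a

/-- The point of a family in the union. -/
def toHomS (B : CommAlgCat.{u} R) (Φ : {Φ : A →ₐ[R] MonoidAlgebra B G // IsFam Φ}) : Pt B ⟶ homS (G := G) F :=
  toObE F (le_refl _) B ⟨Φ.1, Φ.2, (exists_finset_inE F Φ.1).choose_spec⟩ ≫ inclU F _

theorem toHomS_eq {E : Finset G} (B : CommAlgCat.{u} R) (Φ : A →ₐ[R] MonoidAlgebra B G) (hΦ : IsFam Φ)
    (g : Pt B ⟶ U F E) (hg : (famObE F g).1 = Φ) : toHomS F B ⟨Φ, hΦ⟩ = g ≫ inclU F E := by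
  classical
  set E₁ := (exists_finset_inE F Φ).choose
  have h1 : E₁ ⊆ E₁ ∪ E := Finset.subset_union_left
  have h2 : E ⊆ E₁ ∪ E := Finset.subset_union_right
  show toObE F (le_refl E₁) B _ ≫ inclU F E₁ = _
  rw [← tr_inclU F h1, ← tr_inclU F h2, ← Category.assoc, ← Category.assoc]
  congr 1
  refine (eqvObE F (le_refl _) B).injective (Subtype.ext ?_)
  show (famObE F (_ ≫ tr F h1)).1 = (famObE F (_ ≫ tr F h2)).1
  rw [famObE_tr, famObE_tr, hg]
  exact congrArg Subtype.val ((eqvObE F (le_refl E₁) B).apply_symm_apply _)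

theorem toHomS_bijective (B : CommAlgCat.{u} R) : Function.Bijective (toHomS (G := G) F B) := by
  classical
  refine ⟨fun Φ Ψ h => Subtype.ext ?_, fun a => ?_⟩
  · set E₁ := (exists_finset_inE F Φ.1).choose
    set E₂ := (exists_finset_inE F Ψ.1).choose
    have h1 : E₁ ⊆ E₁ ∪ E₂ := Finset.subset_union_left
    have h2 : E₂ ⊆ E₁ ∪ E₂ := Finset.subset_union_right
    have h' : toObE F (le_refl E₁) B ⟨Φ.1, Φ.2, (exists_finset_inE F Φ.1).choose_spec⟩ ≫ inclU F E₁ =
        toObE F (le_refl E₂) B ⟨Ψ.1, Ψ.2, (exists_finset_inE F Ψ.1).choose_spec⟩ ≫ inclU F E₂ := h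
    rw [← tr_inclU F h1, ← tr_inclU F h2, ← Category.assoc, ← Category.assoc] at h'
    have hl := (cancel_mono (inclU F (E₁ ∪ E₂)).left).1 (congrArg CommaMorphism.left h')
    have := congrArg (fun g => (famObE F g).1) (Over.OverMorphism.ext hl)
    simp only [famObE_tr] at this
    refine Eq.trans ?_ (this.trans ?_)
    · exact (congrArg Subtype.val ((eqvObE F (le_refl E₁) B).apply_symm_apply
        ⟨Φ.1, Φ.2, (exists_finset_inE F Φ.1).choose_spec⟩)).symm
    · exact congrArg Subtype.val ((eqvObE F (le_refl E₂) B).apply_symm_apply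
        ⟨Ψ.1, Ψ.2, (exists_finset_inE F Ψ.1).choose_spec⟩)
  · obtain ⟨E, g, rfl⟩ := exists_lift_inclU F B a
    exact ⟨⟨(famObE F g).1, (famObE F g).2.1⟩, toHomS_eq F B _ _ g rfl⟩

/-- Points of the scheme are all families. -/
def eqvHomS (B : CommAlgCat.{u} R) : {Φ : A →ₐ[R] MonoidAlgebra B G // IsFam Φ} ≃ (Pt B ⟶ homS (G := G) F) :=
  Equiv.ofBijective _ (toHomS_bijective F B)

theorem eqvHomS_comp {B C : CommAlgCat.{u} R} (φ : B ⟶ C) (Φ : {Φ : A →ₐ[R] MonoidAlgebra B G // IsFam Φ}) :
    eqvHomS F C ⟨(MonoidAlgebra.mapAlgHom G φ.hom).comp Φ.1, Φ.2.map _⟩ = ptMap φ ≫ eqvHomS F B Φ := by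
  show toHomS F C _ = ptMap φ ≫ toObE F _ B _ ≫ inclU F _
  rw [← Category.assoc]
  refine toHomS_eq F C _ _ _ ?_
  rw [famObE_comp]
  exact congrArg _ (congrArg Subtype.val ((eqvObE F (le_refl _) B).apply_symm_apply _))

theorem locallyOfFinitePresentation_homS : LocallyOfFinitePresentation (homS (G := G) F).hom := by
  refine IsZariskiLocalAtSource.of_openCover (P := @LocallyOfFinitePresentation)
    (Scheme.IsLocallyDirected.openCover (diag (G := G) F)) fun E => ?_
  show LocallyOfFinitePresentation (colimit.ι (diag F) E ≫ _)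
  rw [show colimit.ι (diag F) E ≫ (homS (G := G) F).hom = (U F E).hom from colimit.ι_desc _ _]
  haveI : LocallyOfFinitePresentation (Pt (CommAlgCat.of R (uData F E).W)).hom :=
    (HasRingHomProperty.Spec_iff (P := @LocallyOfFinitePresentation)).2
      (RingHom.finitePresentation_algebraMap.2 (uData F E).fp)
  exact MorphismProperty.comp_mem _ _ _ (inferInstanceAs (LocallyOfFinitePresentation (openE F E E).ι)) inferInstance

end Groth.Misc15.HomMT
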