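import Mathlib
import Groth.Agent.Misc15.HomMT.Scheme
import Groth.Agent.Misc15.HomMT.Inv

/-!
The invariant as a morphism from the scheme of homomorphisms to an affine scheme; it is locally
quasi-finite.
-/

set_option autoImplicit false
set_option linter.style.haveILetI false
set_option linter.unusedSectionVars false
set_option synthInstance.maxHeartbeats 200000

universe u

open TensorProduct CategoryTheory CategoryTheory.Limits AlgebraicGeometry
open Groth.GrassRep (Pt ptMap)

noncomputable section

namespace Groth.Misc15.HomMT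

variable {R : Type u} [CommRing R] {A : Type u} [CommRing A] [Bialgebra R A]
  [Algebra.FinitePresentation R A] {G : Type} [CommGroup G] (F : FinComod R A)

theorem finite_cmap (E : Finset G) : (cmap (genA F) (uData F E).Φ).toRingHom.Finite := by
  set u := uData F E
  let P := MvPolynomial (Fin (ngen F) × ℕ) R
  letI := (cmap (genA F) u.Φ).toRingHom.toAlgebra
  haveI : IsScalarTower R P u.W := IsScalarTower.of_algHom (cmap (genA F) u.Φ)
  let C : Subalgebra R u.W := (integralClosure P u.W).restrictScalars R
  have hmem : ∀ i g, cf u.Φ g (genA F i) ∈ C := fun i g => isIntegral_cf (genA F) u.Φ i g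
  let ι := MonoidAlgebra.mapAlgHom G C.val
  have hι : Function.Injective ι := fun a b hab => MonoidAlgebra.ext (Finsupp.ext fun g => Subtype.val_injective (by
    have := congrArg (fun z => z.coeff g) hab
    simpa [ι] using this))
  have hι' : ∀ (G' : Type) [CommGroup G'], Function.Injective (MonoidAlgebra.mapAlgHom G' C.val) := fun G' _ a b hab =>
    MonoidAlgebra.ext (Finsupp.ext fun g => Subtype.val_injective (by
      have := congrArg (fun z => z.coeff g) hab
      simpa using this))
  have hrange : ∀ a, u.Φ a ∈ ι.range := by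
    intro a
    have : Algebra.adjoin R (Set.range (genA F)) ≤ ι.range.comap u.Φ := Algebra.adjoin_le (by
      rintro _ ⟨i, rfl⟩
      show u.Φ (genA F i) ∈ ι.range
      rw [← MonoidAlgebra.sum_coeff_single (u.Φ (genA F i))]
      refine sum_mem fun g _ => ⟨MonoidAlgebra.single g ⟨_, hmem i g⟩, ?_⟩
      simp [ι, cf_apply])
    exact this (adjoin_genA F ▸ trivial)
  let Φ' : A →ₐ[R] MonoidAlgebra C G :=
    (AlgEquiv.ofInjective ι hι).symm.toAlgHom.comp (u.Φ.codRestrict _ hrange)
  have hΦ' : ι.comp Φ' = u.Φ := AlgHom.ext fun a =>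
    congrArg Subtype.val ((AlgEquiv.ofInjective ι hι).apply_symm_apply ⟨u.Φ a, hrange a⟩)
  clear_value Φ'
  have hfam : IsFam Φ' := by
    constructor
    · refine AlgHom.ext fun a => hι' (G × G) ?_
      have h := AlgHom.congr_fun u.fam.mul a
      rw [← hΦ'] at h
      have nat : ∀ (k : G →* G × G), (MonoidAlgebra.mapAlgHom (G × G) C.val).comp (MonoidAlgebra.mapDomainAlgHom R C k) =
          (MonoidAlgebra.mapDomainAlgHom R u.W k).comp ι := fun k =>
        MonoidAlgebra.algHom_ext (fun g => by simp [ι]) (AlgHom.ext fun b => by simp [ι])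
      rw [← AlgHom.comp_apply (MonoidAlgebra.mapAlgHom (G × G) C.val), ← AlgHom.comp_apply (MonoidAlgebra.mapAlgHom (G × G) C.val),
        comp_conv]
      simp only [← AlgHom.comp_assoc, nat]
      simpa only [AlgHom.comp_assoc] using h
    · refine AlgHom.ext fun a => Subtype.val_injective ?_
      have h := AlgHom.congr_fun u.fam.one a
      rw [← hΦ', ← AlgHom.comp_assoc, ev_comp_mapAlgHom, AlgHom.id_comp] at h
      rw [show (C.val : C →ₐ[R] u.W) = C.val.comp (AlgHom.id R C) from rfl,
        ← MonoidHom.comp_one (C.val : C →* u.W), ← comp_ev] at h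
      exact h
  have hsupp : Supp (genA F) Φ' E := fun i g hg => Subtype.val_injective (by
    have h := u.supp i g hg
    rw [← hΦ', cf_map] at h
    exact h)
  obtain ⟨k, hk, -⟩ := u.univ C Φ' hfam hsupp
  beta_reduce at hk
  have hid : C.val.comp k = AlgHom.id R u.W := by
    refine (u.univ u.W u.Φ u.fam u.supp).unique ?_ ?_
    · rw [MonoidAlgebra.mapRangeAlgHom_comp, AlgHom.comp_assoc, hk, hΦ']
    · rw [MonoidAlgebra.mapAlgHom_id, AlgHom.id_comp]
  haveI : Algebra.IsIntegral P u.W := ⟨fun w => by
    have := AlgHom.congr_fun hid w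
    rw [← show ((k w : C) : u.W) = w from this]
    exact (k w).2⟩
  haveI : Algebra.FiniteType R u.W := by
    have := u.fp
    infer_instance
  haveI : Algebra.FiniteType P u.W := Algebra.FiniteType.of_restrictScalars_finiteType R P u.W
  exact (Algebra.IsIntegral.finite : Module.Finite P u.W)

/-- The ring of invariants as an algebra. -/
abbrev invRing : CommAlgCat.{u} R := CommAlgCat.of R (MvPolynomial (Fin (ngen F) × ℕ) R)

theorem exists_invMap :
    ∃ c : homS (G := G) F ⟶ Pt (invRing F), ∀ (B : CommAlgCat.{u} R) (Φ : {Φ : A →ₐ[R] MonoidAlgebra B G // IsFam Φ}),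
      eqvHomS F B Φ ≫ c = ptMap (CommAlgCat.ofHom (cmap (genA F) Φ.1)) := by
  obtain ⟨c, hc⟩ := Groth.GrassRep.exists_hom_of_pts (X := homS (G := G) F) (Y := Pt (invRing F))
    (fun B a => ptMap (CommAlgCat.ofHom (cmap (genA F) ((eqvHomS F B).symm a).1))) fun B C φ g => by
      have h : ((eqvHomS F C).symm (ptMap φ ≫ g)) =
          ⟨(MonoidAlgebra.mapAlgHom G φ.hom).comp ((eqvHomS F B).symm g).1, ((eqvHomS F B).symm g).2.map _⟩ := by
        apply (eqvHomS F C).injective
        rw [Equiv.apply_symm_apply, eqvHomS_comp, Equiv.apply_symm_apply]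
      rw [h, ← cmap_map, ← Groth.GrassRep.ptMap_comp]
      rfl
  exact ⟨c, fun B Φ => by rw [hc, Equiv.symm_apply_apply]⟩

/-- The invariant as a morphism. -/
def invMap : homS (G := G) F ⟶ Pt (invRing F) := (exists_invMap F).choose

theorem invMap_spec (B : CommAlgCat.{u} R) (Φ : {Φ : A →ₐ[R] MonoidAlgebra B G // IsFam Φ}) :
    eqvHomS F B Φ ≫ invMap F = ptMap (CommAlgCat.ofHom (cmap (genA F) Φ.1)) := (exists_invMap F).choose_spec B Φ

theorem inclU_invMap (E : Finset G) :
    inclU F E ≫ invMap F = inclE F E E ≫ ptMap (CommAlgCat.ofHom (cmap (genA F) (uData F E).Φ)) := by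
  refine Groth.GrassRep.hom_ext _ _ fun B g => ?_
  obtain ⟨k, hk⟩ := Groth.GrassRep.exists_ptMap (g ≫ inclE F E E)
  have h1 := famObE_eq F g k.hom (hk.trans rfl)
  have h2 : eqvHomS F B ⟨(famObE F g).1, (famObE F g).2.1⟩ = g ≫ inclU F E := toHomS_eq F B _ _ g rfl
  rw [← Category.assoc, ← h2, invMap_spec, ← Category.assoc, hk, ← Groth.GrassRep.ptMap_comp]
  refine congrArg ptMap (CommAlgCat.hom_ext ?_)
  show cmap (genA F) (famObE F g).1 = k.hom.comp (cmap (genA F) (uData F E).Φ)
  rw [h1, cmap_map]

theorem locallyQuasiFinite_invMap : LocallyQuasiFinite (invMap (G := G) F).left := by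
  refine IsZariskiLocalAtSource.of_openCover (P := @LocallyQuasiFinite)
    (Scheme.IsLocallyDirected.openCover (diag (G := G) F)) fun E => ?_
  show LocallyQuasiFinite ((inclU F E).left ≫ (invMap F).left)
  rw [← Over.comp_left, inclU_invMap, Over.comp_left]
  haveI : IsFinite (ptMap (CommAlgCat.ofHom (cmap (genA F) (uData F E).Φ))).left :=
    (IsFinite.SpecMap_iff _).2 (finite_cmap F E)
  exact MorphismProperty.comp_mem _ _ _ (inferInstance : LocallyQuasiFinite (inclE F E E).left) inferInstance

theorem locallyOfFiniteType_invMap : LocallyOfFiniteType (invMap (G := G) F).left := by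
  haveI := locallyOfFinitePresentation_homS (G := G) F
  haveI : LocallyOfFiniteType ((invMap (G := G) F).left ≫ (Pt (invRing F)).hom) := by
    rw [Over.w]; infer_instance
  exact locallyOfFiniteType_of_comp (invMap (G := G) F).left (Pt (invRing F)).hom

end Groth.Misc15.HomMT
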